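import Mathlib.Algebra.Module.FinitePresentation
import Mathlib.RingTheory.Finiteness.Basic

/-! Coherent modules. -/

set_option linter.style.haveILetI false

namespace Groth.Agent.CAlgUI

universe u v w

variable {R : Type u} [CommRing R]

/-- every finitely generated submodule is finitely presented (pseudo-coherence in the old sense). -/
abbrev SubFP (R : Type u) [CommRing R] (M : Type v) [AddCommGroup M] [Module R M] : Prop :=
  ∀ N : Submodule R M, N.FG → Module.FinitePresentation R N

theorem subFP_extension {M₁ M₂ M₃ : Type v}
    [AddCommGroup M₁] [Module R M₁] [AddCommGroup M₂] [Module R M₂] [AddCommGroup M₃] [Module R M₃]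
    (f : M₁ →ₗ[R] M₂) (g : M₂ →ₗ[R] M₃) (hf : Function.Injective f)
    (hfg : LinearMap.range f = LinearMap.ker g) (h₁ : SubFP R M₁) (h₃ : SubFP R M₃) :
    SubFP R M₂ := by
  intro N hN
  haveI : Module.Finite R N := Module.Finite.iff_fg.2 hN
  let g' : N →ₗ[R] N.map g := g.submoduleMap N
  have hg' : Function.Surjective g' := g.submoduleMap_surjective N
  haveI : Module.FinitePresentation R (N.map g) := h₃ _ (hN.map g)
  have hker : (LinearMap.ker g').FG := Module.FinitePresentation.fg_ker g' hg'
  let K : Submodule R M₁ := ((LinearMap.ker g').map N.subtype).comap f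
  have hle : (LinearMap.ker g').map N.subtype ≤ LinearMap.range f := by
    rintro x ⟨y, hy, rfl⟩
    rw [hfg]
    simpa [g', LinearMap.mem_ker, Subtype.ext_iff] using hy
  have hKmap : K.map f = (LinearMap.ker g').map N.subtype := by
    rw [Submodule.map_comap_eq, inf_eq_right.2 hle]
  have hK : K.FG := Submodule.fg_of_fg_map_injective f hf (by rw [hKmap]; exact hker.map _)
  haveI : Module.FinitePresentation R K := h₁ K hK
  let e1 : K ≃ₗ[R] K.map f := Submodule.equivMapOfInjective f hf K
  let e2 : LinearMap.ker g' ≃ₗ[R] (LinearMap.ker g').map N.subtype :=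
    Submodule.equivMapOfInjective N.subtype N.subtype_injective _
  haveI : Module.FinitePresentation R (LinearMap.ker g') :=
    Module.FinitePresentation.of_equiv (e1.trans ((LinearEquiv.ofEq _ _ hKmap).trans e2.symm))
  exact Module.finitePresentation_of_ker g' hg'

theorem subFP_fin (hR : SubFP R R) : ∀ n : ℕ, SubFP R (Fin n → R)
  | 0 => fun N _ => by
      haveI : Subsingleton N := inferInstance
      exact Module.finitePresentation_of_projective R N
  | n + 1 => by
      let f : R →ₗ[R] (Fin (n + 1) → R) := LinearMap.single R (fun _ => R) 0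
      let g : (Fin (n + 1) → R) →ₗ[R] (Fin n → R) := LinearMap.funLeft R R Fin.succ
      refine subFP_extension f g ?_ ?_ hR (subFP_fin hR n)
      · exact Pi.single_injective (M := fun _ => R) 0
      · ext x
        constructor
        · rintro ⟨r, rfl⟩
          ext i
          simp [f, g, LinearMap.funLeft, Fin.succ_ne_zero]
        · intro hx
          refine ⟨x 0, ?_⟩
          ext i
          refine Fin.cases ?_ (fun j => ?_) i
          · simp [f]
          · have := congrFun hx j
            simp [g, LinearMap.funLeft] at this
            simp [f, Fin.succ_ne_zero, this]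

theorem subFP_of_surjective {F : Type v} {M : Type w} [AddCommGroup F] [Module R F] [AddCommGroup M]
    [Module R M] (q : F →ₗ[R] M) (hq : Function.Surjective q) (hK : (LinearMap.ker q).FG)
    (hF : SubFP R F) : SubFP R M := by
  intro N hN
  have hP : (N.comap q).FG := by
    refine Submodule.fg_of_fg_map_of_fg_inf_ker q ?_ ?_
    · rwa [Submodule.map_comap_eq_of_surjective hq]
    · rw [inf_eq_right.2 (LinearMap.ker_le_comap (f := q) (p := N))]
      exact hK
  haveI : Module.FinitePresentation R (N.comap q) := hF _ hP
  let q' : N.comap q →ₗ[R] N := (q.domRestrict (N.comap q)).codRestrict N (fun x => x.2)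
  have hq' : Function.Surjective q' := by
    rintro ⟨y, hy⟩
    obtain ⟨x, rfl⟩ := hq y
    exact ⟨⟨x, hy⟩, rfl⟩
  refine Module.finitePresentation_of_surjective q' hq' ?_
  refine Submodule.fg_of_fg_map_injective (N.comap q).subtype (N.comap q).subtype_injective ?_
  convert hK using 1
  ext x
  constructor
  · rintro ⟨y, hy, rfl⟩
    simpa [q', Subtype.ext_iff] using hy
  · intro hx
    have hx' : q x = 0 := hx
    exact ⟨⟨x, by simp [hx']⟩, by simp [q', Subtype.ext_iff, hx'], rfl⟩

theorem subFP_of_finitePresentation (hR : SubFP R R) (M : Type v) [AddCommGroup M] [Module R M]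
    [Module.FinitePresentation R M] : SubFP R M := by
  obtain ⟨n, K, e, hK⟩ := Module.FinitePresentation.exists_fin R M
  refine subFP_of_surjective (e.symm.toLinearMap.comp K.mkQ) ?_ ?_ (subFP_fin hR n)
  · exact e.symm.surjective.comp K.mkQ_surjective
  · rw [LinearEquiv.ker_comp, Submodule.ker_mkQ]; exact hK

end Groth.Agent.CAlgUI
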