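import Mathlib.Algebra.Module.FinitePresentation
import Mathlib.LinearAlgebra.TensorProduct.RightExactness
import Mathlib.LinearAlgebra.Finsupp.LinearCombination
import Mathlib.RingTheory.Finiteness.Finsupp
import Mathlib.LinearAlgebra.Finsupp.Supported

/-!
Finitely presented approximation of vanishing in tensor products.
-/

namespace Groth.Agent.CAlgUI

open TensorProduct

universe u v w

variable {R : Type u} [CommRing R]

theorem exists_fg_mem_range_lTensor {N : Type v} [AddCommGroup N] [Module R N]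
    {F : Type w} [AddCommGroup F] [Module R F] (K : Submodule R F) (t : N ⊗[R] K) :
    ∃ K₀ : Submodule R F, K₀ ≤ K ∧ K₀.FG ∧
      K.subtype.lTensor N t ∈ LinearMap.range (K₀.subtype.lTensor N) := by
  have mono : ∀ {A B : Submodule R F} (h : A ≤ B), LinearMap.range (A.subtype.lTensor N) ≤
      LinearMap.range (B.subtype.lTensor N) := fun {A B} h => by
    rw [← Submodule.subtype_comp_inclusion A B h, LinearMap.lTensor_comp]
    exact LinearMap.range_comp_le_range _ _
  induction t using TensorProduct.induction_on with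
  | zero => exact ⟨⊥, bot_le, Submodule.fg_bot, by simp⟩
  | tmul n k =>
    exact ⟨Submodule.span R {(k : F)}, (Submodule.span_singleton_le_iff_mem _ _).mpr k.2,
      Submodule.fg_span_singleton _, n ⊗ₜ ⟨k, Submodule.mem_span_singleton_self _⟩, by simp⟩
  | add a b ha hb =>
    obtain ⟨A, hA, hA', ha⟩ := ha
    obtain ⟨B, hB, hB', hb⟩ := hb
    refine ⟨A ⊔ B, sup_le hA hB, hA'.sup hB', ?_⟩
    rw [map_add]
    exact add_mem (mono le_sup_left ha) (mono le_sup_right hb)

/-- Restriction to a finite set of coordinates. -/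
noncomputable def restr (R : Type u) [CommRing R] {Q : Type w} (s : Finset Q) : (Q →₀ R) →ₗ[R] (s →₀ R) :=
  Finsupp.lcomapDomain (M := R) (R := R) (Subtype.val : s → Q) Subtype.val_injective

/-- Extension by zero from a finite set of coordinates. -/
noncomputable def extd (R : Type u) [CommRing R] {Q : Type w} (s : Finset Q) : (s →₀ R) →ₗ[R] (Q →₀ R) :=
  Finsupp.lmapDomain R R (Subtype.val : s → Q)

theorem extd_restr {Q : Type w} (s : Finset Q) (c : Q →₀ R) (hc : c.support ⊆ s) :
    extd R s (restr R s c) = c := by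
  refine Finsupp.mapDomain_comapDomain _ Subtype.val_injective _ fun q hq => ?_
  exact ⟨⟨q, hc hq⟩, rfl⟩

theorem extd_restr_lTensor_mono {M : Type v} [AddCommGroup M] [Module R M] {Q : Type w}
    {s t : Finset Q} (hst : s ⊆ t) {u : M ⊗[R] (Q →₀ R)}
    (hu : (extd R s ∘ₗ restr R s).lTensor M u = u) : (extd R t ∘ₗ restr R t).lTensor M u = u := by
  classical
  have : (extd R t ∘ₗ restr R t) ∘ₗ (extd R s ∘ₗ restr R s) = extd R s ∘ₗ restr R s := by
    refine LinearMap.ext fun c => extd_restr t _ ?_
    intro q hq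
    obtain ⟨a, -, rfl⟩ := Finset.mem_image.mp (Finsupp.mapDomain_support hq)
    exact hst a.2
  rw [← hu, ← LinearMap.comp_apply, ← LinearMap.lTensor_comp, this]

theorem exists_finset_support_lTensor {M : Type v} [AddCommGroup M] [Module R M] {Q : Type w}
    (u : M ⊗[R] (Q →₀ R)) : ∃ s : Finset Q, (extd R s ∘ₗ restr R s).lTensor M u = u := by
  classical
  induction u using TensorProduct.induction_on with
  | zero => exact ⟨∅, by simp⟩
  | tmul m c => exact ⟨c.support, by simp [extd_restr _ c (subset_refl _)]⟩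
  | add a b ha hb =>
    obtain ⟨s, hs⟩ := ha
    obtain ⟨t, ht⟩ := hb
    exact ⟨s ∪ t, by rw [map_add, extd_restr_lTensor_mono Finset.subset_union_left hs,
      extd_restr_lTensor_mono Finset.subset_union_right ht]⟩

theorem exists_finset_supported {Q : Type w} {K : Submodule R (Q →₀ R)} (hK : K.FG) :
    ∃ s : Finset Q, ∀ k ∈ K, extd R s (restr R s k) = k := by
  classical
  obtain ⟨S, rfl⟩ := hK
  refine ⟨S.biUnion fun c => c.support, fun k hk => ?_⟩
  induction hk using Submodule.span_induction with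
  | mem x hx => exact extd_restr _ x (Finset.subset_biUnion_of_mem (fun c : Q →₀ R => c.support) hx)
  | zero => simp
  | add x y _ _ hx hy => simp only [map_add, hx, hy]
  | smul r x _ hx => simp only [map_smul, hx]

/-- A tensor killed by `f ⊗ Q` already comes from a tensor over a finitely presented module
killed by `f`. -/
theorem exists_fp_lift {M N Q : Type u} [AddCommGroup M] [Module R M] [AddCommGroup N] [Module R N]
    [AddCommGroup Q] [Module R Q] (f : M →ₗ[R] N) (x : M ⊗[R] Q) (hx : f.rTensor Q x = 0) :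
    ∃ (Q' : Type u) (_ : AddCommGroup Q') (_ : Module R Q'), Module.FinitePresentation R Q' ∧
      ∃ (φ : Q' →ₗ[R] Q) (x' : M ⊗[R] Q'), φ.lTensor M x' = x ∧ f.rTensor Q' x' = 0 := by
  classical
  let π : (Q →₀ R) →ₗ[R] Q := Finsupp.linearCombination R id
  have hπ : Function.Surjective π := fun q => ⟨Finsupp.single q 1, by simp [π]⟩
  obtain ⟨u, hu⟩ := LinearMap.lTensor_surjective M hπ x
  have h1 : π.lTensor N (f.rTensor _ u) = 0 := by
    rw [← LinearMap.comp_apply, LinearMap.lTensor_comp_rTensor, ← LinearMap.rTensor_comp_lTensor,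
      LinearMap.comp_apply, hu, hx]
  have hex : Function.Exact (⇑(LinearMap.ker π).subtype) (⇑π) := LinearMap.exact_subtype_ker_map π
  have hexN := lTensor_exact (R := R) (M := ↥(LinearMap.ker π)) (N := Q →₀ R) (P := Q) N (f := (LinearMap.ker π).subtype) (g := π) hex hπ
  obtain ⟨t, ht⟩ := (hexN _).mp h1
  obtain ⟨K₀, hK₀, hK₀fg, hmem⟩ := exists_fg_mem_range_lTensor (LinearMap.ker π) t
  rw [ht] at hmem
  obtain ⟨s₁, hs₁⟩ := exists_finset_supported hK₀fg
  obtain ⟨s₂, hs₂⟩ := exists_finset_support_lTensor u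
  let s := s₁ ∪ s₂
  have hu' := extd_restr_lTensor_mono (t := s) Finset.subset_union_right hs₂
  have hK' : ∀ k ∈ K₀, extd R s (restr R s k) = k := fun k hk => by
    refine extd_restr s k fun q hq => Finset.subset_union_left ?_
    rw [← hs₁ k hk] at hq
    obtain ⟨a, -, rfl⟩ := Finset.mem_image.mp (Finsupp.mapDomain_support hq)
    exact a.2
  let K' : Submodule R (s →₀ R) := K₀.map (restr R s)
  refine ⟨(s →₀ R) ⧸ K', inferInstance, inferInstance,
    Module.finitePresentation_of_free_of_surjective K'.mkQ K'.mkQ_surjective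
      (by simpa [K'] using hK₀fg.map (restr R s)),
    K'.liftQ (π ∘ₗ extd R s) ?_, (K'.mkQ ∘ₗ restr R s).lTensor M u, ?_, ?_⟩
  · rintro _ ⟨k, hk, rfl⟩
    rw [LinearMap.mem_ker, LinearMap.comp_apply, hK' k hk]
    exact hK₀ hk
  · rw [← LinearMap.comp_apply, ← LinearMap.lTensor_comp, ← LinearMap.comp_assoc,
      Submodule.liftQ_mkQ, LinearMap.comp_assoc, LinearMap.lTensor_comp, LinearMap.comp_apply, hu', hu]
  · rw [← LinearMap.comp_apply, LinearMap.rTensor_comp_lTensor, ← LinearMap.lTensor_comp_rTensor,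
      LinearMap.comp_apply]
    obtain ⟨a, ha⟩ := hmem
    rw [← ha, ← LinearMap.comp_apply, ← LinearMap.lTensor_comp]
    have hz : (K'.mkQ ∘ₗ restr R s) ∘ₗ K₀.subtype = 0 := LinearMap.ext fun k =>
      (Submodule.Quotient.mk_eq_zero K').mpr (Submodule.mem_map_of_mem k.2)
    rw [hz, LinearMap.lTensor_zero, LinearMap.zero_apply]

end Groth.Agent.CAlgUI
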