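import Groth.Prelude.Def_CAlgX
import Groth.Agent.CAlgUI.Approx
import Mathlib.LinearAlgebra.TensorProduct.Pi
import Mathlib.LinearAlgebra.Matrix.ToLin

/-!
Universally injective maps: finitely presented test, equational criterion, lifting, domination.
-/

namespace Groth.Agent.CAlgUI

open TensorProduct

universe u

variable {R : Type u} [CommRing R]
  {M N M' : Type u} [AddCommGroup M] [Module R M] [AddCommGroup N] [Module R N]
  [AddCommGroup M'] [Module R M']

/-- `g` dominates `f`. -/
def Dom (f : M →ₗ[R] N) (g : M →ₗ[R] M') : Prop :=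
  ∀ (Q : Type u) [AddCommGroup Q] [Module R Q], LinearMap.ker (f.rTensor Q) ≤ LinearMap.ker (g.rTensor Q)

theorem dom_iff_fp (f : M →ₗ[R] N) (g : M →ₗ[R] M') :
    Dom f g ↔ ∀ (Q : Type u) [AddCommGroup Q] [Module R Q], Module.FinitePresentation R Q →
      LinearMap.ker (f.rTensor Q) ≤ LinearMap.ker (g.rTensor Q) := by
  refine ⟨fun h Q _ _ _ => h Q, fun h Q _ _ x hx => ?_⟩
  obtain ⟨Q', _, _, hQ', φ, x', rfl, hx'⟩ := exists_fp_lift f x (LinearMap.mem_ker.mp hx)
  rw [LinearMap.mem_ker, ← LinearMap.comp_apply, LinearMap.rTensor_comp_lTensor,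
    ← LinearMap.lTensor_comp_rTensor, LinearMap.comp_apply, LinearMap.mem_ker.mp (h Q' hQ' hx'),
    map_zero]

theorem ui_iff_fp (f : M →ₗ[R] N) :
    CAlgX.UniversallyInjective R f ↔ ∀ (Q : Type u) [AddCommGroup Q] [Module R Q],
      Module.FinitePresentation R Q → Function.Injective (f.rTensor Q) := by
  refine ⟨fun h Q _ _ _ => h Q, fun h Q _ _ => ?_⟩
  rw [injective_iff_map_eq_zero]
  intro x hx
  obtain ⟨Q', _, _, hQ', φ, x', rfl, hx'⟩ := exists_fp_lift f x hx
  rw [(injective_iff_map_eq_zero _).mp (h Q' hQ') x' hx', map_zero]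

theorem ui_injective {f : M →ₗ[R] N} (hf : CAlgX.UniversallyInjective R f) : Function.Injective f := by
  intro a b hab
  refine (TensorProduct.rid R M).symm.injective (hf R ?_)
  simp [hab]

theorem ui_comp {g : N →ₗ[R] M'} {f : M →ₗ[R] N} (hg : CAlgX.UniversallyInjective R g)
    (hf : CAlgX.UniversallyInjective R f) : CAlgX.UniversallyInjective R (g ∘ₗ f) := fun Q _ _ => by
  rw [LinearMap.rTensor_comp, LinearMap.coe_comp]
  exact (hg Q).comp (hf Q)

theorem ui_of_comp {g : N →ₗ[R] M'} {f : M →ₗ[R] N}
    (h : CAlgX.UniversallyInjective R (g ∘ₗ f)) : CAlgX.UniversallyInjective R f := fun Q _ _ => by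
  have := h Q
  rw [LinearMap.rTensor_comp, LinearMap.coe_comp] at this
  exact this.of_comp

theorem ui_of_leftInverse {f : M →ₗ[R] N} (r : N →ₗ[R] M) (hr : r ∘ₗ f = LinearMap.id) :
    CAlgX.UniversallyInjective R f :=
  ui_of_comp (g := r) (hr ▸ fun Q _ _ => by rw [LinearMap.rTensor_id]; exact Function.injective_id)

section Criterion

variable {n m : ℕ}

/-- The module presented by the matrix `a`. -/
abbrev Presented (a : Fin n → Fin m → R) : Type u :=
  (Fin n → R) ⧸ LinearMap.range (Matrix.mulVecLin (Matrix.of a))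

/-- The tensor attached to a family `x` in the module presented by `a`. -/
def elem (a : Fin n → Fin m → R) (x : Fin n → M) : M ⊗[R] Presented a :=
  (LinearMap.range (Matrix.mulVecLin (Matrix.of a))).mkQ.lTensor M
    ((TensorProduct.piScalarRight R R M (Fin n)).symm x)

omit M' in
theorem piScalarRightHom_lTensor_mulVecLin (a : Fin n → Fin m → R) (w : M ⊗[R] (Fin m → R)) (i : Fin n) :
    TensorProduct.piScalarRightHom R R M (Fin n) ((Matrix.mulVecLin (Matrix.of a)).lTensor M w) i =
      ∑ j, a i j • TensorProduct.piScalarRightHom R R M (Fin m) w j := by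
  induction w using TensorProduct.induction_on with
  | zero => simp
  | tmul y v => simp [Matrix.mulVec, dotProduct, Finset.sum_smul, mul_smul]
  | add p q hp hq => simp only [map_add, Pi.add_apply, hp, hq, smul_add, Finset.sum_add_distrib]

theorem elem_eq_zero_iff (a : Fin n → Fin m → R) (x : Fin n → M) :
    elem a x = 0 ↔ ∃ z : Fin m → M, ∀ i, x i = ∑ j, a i j • z j := by
  have hex : Function.Exact (Matrix.mulVecLin (Matrix.of a))
      (LinearMap.range (Matrix.mulVecLin (Matrix.of a))).mkQ :=
    LinearMap.exact_iff.mpr (Submodule.ker_mkQ _)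
  rw [elem, lTensor_exact M hex (Submodule.mkQ_surjective _)]
  constructor
  · rintro ⟨w, hw⟩
    refine ⟨TensorProduct.piScalarRightHom R R M (Fin m) w, fun i => ?_⟩
    rw [← piScalarRightHom_lTensor_mulVecLin, hw, ← TensorProduct.piScalarRight_apply,
      LinearEquiv.apply_symm_apply]
  · rintro ⟨z, hz⟩
    refine ⟨(TensorProduct.piScalarRight R R M (Fin m)).symm z,
      (TensorProduct.piScalarRight R R M (Fin n)).injective ?_⟩
    ext i
    rw [LinearEquiv.apply_symm_apply, TensorProduct.piScalarRight_apply,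
      piScalarRightHom_lTensor_mulVecLin, ← TensorProduct.piScalarRight_apply,
      LinearEquiv.apply_symm_apply, hz]

theorem rTensor_elem (f : M →ₗ[R] N) (a : Fin n → Fin m → R) (x : Fin n → M) :
    f.rTensor _ (elem a x) = elem a (f ∘ x) := by
  rw [elem, elem, ← LinearMap.comp_apply, LinearMap.rTensor_comp_lTensor,
    ← LinearMap.lTensor_comp_rTensor, LinearMap.comp_apply]
  congr 1
  refine (LinearEquiv.eq_symm_apply _).mpr ?_
  have hcomm : ∀ t : M ⊗[R] (Fin n → R), TensorProduct.piScalarRight R R N (Fin n) (f.rTensor _ t) =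
      f ∘ TensorProduct.piScalarRight R R M (Fin n) t := by
    intro t
    induction t using TensorProduct.induction_on with
    | zero => ext; simp
    | tmul y v => ext; simp
    | add p q hp hq => rw [map_add, map_add, hp, hq, map_add]; ext; simp
  rw [hcomm, LinearEquiv.apply_symm_apply]

/-- The equational criterion. -/
theorem ui_iff_equational (f : M →ₗ[R] N) :
    CAlgX.UniversallyInjective R f ↔ ∀ (n m : ℕ) (x : Fin n → M) (y : Fin m → N) (a : Fin n → Fin m → R),
      (∀ i, f (x i) = ∑ j, a i j • y j) → ∃ z : Fin m → M, ∀ i, x i = ∑ j, a i j • z j := by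
  constructor
  · intro hf n m x y a h
    rw [← elem_eq_zero_iff]
    apply hf
    rw [rTensor_elem, map_zero, elem_eq_zero_iff]
    exact ⟨y, h⟩
  · intro h
    rw [ui_iff_fp]
    intro Q _ _ hQ
    obtain ⟨n, m, p, g, hp, hex⟩ := Module.FinitePresentation.exists_fin' R Q
    let a : Fin n → Fin m → R := fun i j => LinearMap.toMatrix' g i j
    have ha : Matrix.mulVecLin (Matrix.of a) = g := Matrix.toLin'_toMatrix' g
    let e : Presented a ≃ₗ[R] Q :=
      (Submodule.quotEquivOfEq _ _ (by rw [ha, ← LinearMap.exact_iff.mp hex])).trans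
        (p.quotKerEquivOfSurjective hp)
    suffices hinj : Function.Injective (f.rTensor (Presented a)) by
      intro s t hst
      refine (TensorProduct.congr (LinearEquiv.refl R M) e.symm).injective (hinj ?_)
      have hc : ∀ s, f.rTensor (Presented a) (e.symm.toLinearMap.lTensor M s) =
          e.symm.toLinearMap.lTensor N (f.rTensor Q s) := fun s => by
        rw [← LinearMap.comp_apply, LinearMap.rTensor_comp_lTensor, ← LinearMap.lTensor_comp_rTensor,
          LinearMap.comp_apply]
      exact (hc s).trans ((congrArg _ hst).trans (hc t).symm)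
    rw [injective_iff_map_eq_zero]
    intro s hs
    obtain ⟨w, rfl⟩ := LinearMap.lTensor_surjective M (Submodule.mkQ_surjective _) s
    obtain ⟨x, rfl⟩ := (TensorProduct.piScalarRight R R M (Fin n)).symm.surjective w
    change f.rTensor _ (elem a x) = 0 at hs
    rw [rTensor_elem, elem_eq_zero_iff] at hs
    obtain ⟨y, hy⟩ := hs
    exact (elem_eq_zero_iff a x).mpr (h n m x y a hy)

end Criterion

/-- If `f` is universally injective and `(f, g)` is exact with `g` surjective, every map from a
finitely presented module lifts along `g`. -/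
theorem exists_lift_of_ui {P M₁ M₂ M₃ : Type u} [AddCommGroup P] [Module R P]
    [Module.FinitePresentation R P] [AddCommGroup M₁] [Module R M₁] [AddCommGroup M₂] [Module R M₂]
    [AddCommGroup M₃] [Module R M₃] {f : M₁ →ₗ[R] M₂} {g : M₂ →ₗ[R] M₃} (hex : Function.Exact f g)
    (hg : Function.Surjective g) (hf : CAlgX.UniversallyInjective R f) (h : P →ₗ[R] M₃) :
    ∃ h' : P →ₗ[R] M₂, g ∘ₗ h' = h := by
  obtain ⟨n, m, p, b, hp, hpb⟩ := Module.FinitePresentation.exists_fin' R P
  choose y hy using fun i : Fin n => hg (h (p (Pi.single i 1)))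
  let a : Fin m → Fin n → R := fun j i => b (Pi.single j 1) i
  have hsum : ∀ j, b (Pi.single j 1) = ∑ i, a j i • (Pi.single i 1 : Fin n → R) := fun j => by
    ext l; simp [a, Pi.single_apply, Finset.sum_apply]
  have hker : ∀ j, g (∑ i, a j i • y i) = 0 := fun j => by
    simp only [map_sum, map_smul, hy]
    rw [← congrArg h (hpb.apply_apply_eq_zero (Pi.single j 1)) |>.trans (map_zero h), hsum]
    simp only [map_sum, map_smul]
  choose x hx using fun j => (hex _).mp (hker j)
  obtain ⟨z, hz⟩ := (ui_iff_equational f).mp hf m n x y a hx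
  let ψ : (Fin n → R) →ₗ[R] M₂ := (Pi.basisFun R (Fin n)).constr R fun i => y i - f (z i)
  have hψb : LinearMap.range b ≤ LinearMap.ker ψ := by
    rw [LinearMap.range_le_ker_iff]
    refine (Pi.basisFun R (Fin m)).ext fun j => ?_
    simp only [Pi.basisFun_apply, LinearMap.comp_apply, LinearMap.zero_apply]
    rw [hsum]
    have : ∀ i, ψ (Pi.single i 1) = y i - f (z i) := fun i => by
      rw [← Pi.basisFun_apply]; exact Module.Basis.constr_basis _ _ _ _
    simp only [map_sum, map_smul, this, smul_sub, Finset.sum_sub_distrib]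
    rw [← hx j, hz j]
    simp
  let e : ((Fin n → R) ⧸ LinearMap.range b) ≃ₗ[R] P :=
    (Submodule.quotEquivOfEq _ _ (LinearMap.exact_iff.mp hpb).symm).trans (p.quotKerEquivOfSurjective hp)
  refine ⟨(LinearMap.range b).liftQ ψ hψb ∘ₗ e.symm.toLinearMap, LinearMap.ext fun q => ?_⟩
  obtain ⟨v, rfl⟩ := hp q
  have he : e.symm (p v) = (LinearMap.range b).mkQ v := by
    rw [LinearEquiv.symm_apply_eq]; rfl
  simp only [LinearMap.comp_apply, LinearEquiv.coe_coe, he, Submodule.mkQ_apply, Submodule.liftQ_apply]
  refine LinearMap.congr_fun (f := g ∘ₗ ψ) (g := h ∘ₗ p) ?_ v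
  refine (Pi.basisFun R (Fin n)).ext fun i => ?_
  simp only [LinearMap.comp_apply, ψ, Module.Basis.constr_basis, map_sub, hy,
    hex.apply_apply_eq_zero, sub_zero]
  simp

/-- Conversely, if finitely presented modules lift along `g` then the kernel is universally
injective. -/
theorem ui_of_forall_lift {M₁ M₂ M₃ : Type u} [AddCommGroup M₁] [Module R M₁] [AddCommGroup M₂]
    [Module R M₂] [AddCommGroup M₃] [Module R M₃] {f : M₁ →ₗ[R] M₂} {g : M₂ →ₗ[R] M₃}
    (hinj : Function.Injective f) (hex : Function.Exact f g)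
    (H : ∀ (P : Type u) [AddCommGroup P] [Module R P], Module.FinitePresentation R P →
      ∀ h : P →ₗ[R] M₃, ∃ h' : P →ₗ[R] M₂, g ∘ₗ h' = h) :
    CAlgX.UniversallyInjective R f := by
  rw [ui_iff_equational]
  intro n m x y a hxy
  let b : (Fin n → R) →ₗ[R] (Fin m → R) := (Pi.basisFun R (Fin n)).constr R a
  let h₀ : (Fin m → R) →ₗ[R] M₃ := (Pi.basisFun R (Fin m)).constr R fun j => g (y j)
  have hsum : ∀ i, a i = ∑ j, a i j • (Pi.single j 1 : Fin m → R) := fun i => by
    ext l; simp [Pi.single_apply, Finset.sum_apply]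
  have h0e : ∀ j, h₀ (Pi.single j 1) = g (y j) := fun j => by
    rw [← Pi.basisFun_apply]; exact Module.Basis.constr_basis _ _ _ _
  have hb : LinearMap.range b ≤ LinearMap.ker h₀ := by
    rw [LinearMap.range_le_ker_iff]
    refine (Pi.basisFun R (Fin n)).ext fun i => ?_
    simp only [LinearMap.comp_apply, b, Module.Basis.constr_basis, LinearMap.zero_apply]
    rw [hsum i]
    simp only [map_sum, map_smul, h0e]
    have := congrArg g (hxy i)
    simp only [map_sum, map_smul] at this
    rw [← this, hex.apply_apply_eq_zero]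
  have hfg : (LinearMap.range b).FG := by
    rw [LinearMap.range_eq_map]; exact Module.Finite.fg_top.map b
  obtain ⟨h', hh'⟩ := H ((Fin m → R) ⧸ LinearMap.range b)
    (Module.finitePresentation_of_free_of_surjective _ (Submodule.mkQ_surjective _) (by simpa using hfg))
    ((LinearMap.range b).liftQ h₀ hb)
  let y' : Fin m → M₂ := fun j => h' (Submodule.Quotient.mk (Pi.single j 1))
  have hg' : ∀ j, g (y j - y' j) = 0 := fun j => by
    have := LinearMap.congr_fun hh' (Submodule.Quotient.mk (Pi.single j 1))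
    simp only [LinearMap.comp_apply, Submodule.liftQ_apply, h0e] at this
    simp [y', this]
  choose z hz using fun j => (hex _).mp (hg' j)
  refine ⟨z, fun i => hinj ?_⟩
  have h0 : ∑ j, a i j • y' j = 0 := by
    have h1 : (LinearMap.range b).mkQ (a i) = 0 := (Submodule.Quotient.mk_eq_zero _).mpr ⟨Pi.single i 1, by
      rw [← Pi.basisFun_apply]; exact Module.Basis.constr_basis _ _ _ _⟩
    have := congrArg h' h1
    rw [hsum i] at this
    simp only [map_sum, map_smul, map_zero] at this
    exact this
  simp only [map_sum, map_smul, hz, smul_sub, Finset.sum_sub_distrib, h0, sub_zero, hxy]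

end Groth.Agent.CAlgUI
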