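import Groth.Agent.CAlgUI.ML
import Mathlib.RingTheory.Noetherian.Basic

/-!
Flat Mittag-Leffler modules, powers of the ring, coherence.
-/

namespace Groth.Agent.CAlgUI

open TensorProduct

universe u

variable {R : Type u} [CommRing R] {M : Type u} [AddCommGroup M] [Module R M]

theorem exists_smallest [Module.Flat R M] (hM : CAlg.IsMittagLeffler R M)
    {F : Type u} [AddCommGroup F] [Module R F] (x : F ⊗[R] M) :
    ∃ F' : Submodule R F, F'.FG ∧ x ∈ LinearMap.range (F'.subtype.rTensor M) ∧
      ∀ F'' : Submodule R F, x ∈ LinearMap.range (F''.subtype.rTensor M) → F' ≤ F'' := by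
  let ι : Type u := {F'' : Submodule R F // x ∈ LinearMap.range (F''.subtype.rTensor M)}
  let φ : F →ₗ[R] ∀ i : ι, F ⧸ i.1 := LinearMap.pi fun i => i.1.mkQ
  have h0 : φ.rTensor M x = 0 := by
    refine (TensorProduct.comm R _ M).injective ?_
    rw [map_zero]
    refine ml_iff.mp hM ι _ _ fun i => ?_
    have key : ∀ y, TensorProduct.piRightHom R R M (fun i : ι => F ⧸ i.1)
        (TensorProduct.comm R _ M (φ.rTensor M y)) i =
        TensorProduct.comm R (F ⧸ i.1) M (i.1.mkQ.rTensor M y) := fun y => by
      induction y using TensorProduct.induction_on with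
      | zero => simp
      | tmul a b => simp [φ]
      | add a b ha hb => simp only [map_add, Pi.add_apply, ha, hb]
    obtain ⟨w, hw⟩ := i.2
    refine (key x).trans ?_
    refine (congrArg _ (congrArg _ hw.symm)).trans ?_
    rw [← LinearMap.comp_apply, ← LinearMap.rTensor_comp,
      show i.1.mkQ ∘ₗ i.1.subtype = 0 from (LinearMap.exact_subtype_mkQ i.1).linearMap_comp_eq_zero,
      LinearMap.rTensor_zero, LinearMap.zero_apply, map_zero]
  have h1 : φ.rangeRestrict.rTensor M x = 0 := by
    refine (injective_iff_map_eq_zero _).mp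
      (Module.Flat.rTensor_preserves_injective_linearMap (M := M) _ (LinearMap.range φ).injective_subtype) _ ?_
    rw [← LinearMap.comp_apply, ← LinearMap.rTensor_comp, LinearMap.subtype_comp_codRestrict, h0]
  have hex : Function.Exact (LinearMap.ker φ).subtype φ.rangeRestrict := by
    rw [LinearMap.exact_iff, LinearMap.ker_rangeRestrict, Submodule.range_subtype]
  obtain ⟨w, hw⟩ := ((rTensor_exact (R := R) (M := ↥(LinearMap.ker φ)) (N := F) (P := ↥(LinearMap.range φ)) M
    (f := (LinearMap.ker φ).subtype) (g := φ.rangeRestrict) hex φ.surjective_rangeRestrict) _).mp h1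
  obtain ⟨K₀, hK₀, hfg, hmem⟩ := exists_fg_mem_range_rTensor (LinearMap.ker φ) w
  rw [hw] at hmem
  refine ⟨K₀, hfg, hmem, fun F'' hF'' k hk => ?_⟩
  exact (Submodule.Quotient.mk_eq_zero F'').mp (congrFun (LinearMap.mem_ker.mp (hK₀ hk)) ⟨F'', hF''⟩)

theorem ml_of_exists_smallest [Module.Flat R M]
    (H : ∀ (n : ℕ) (x : (Fin n → R) ⊗[R] M), ∃ F' : Submodule R (Fin n → R),
      x ∈ LinearMap.range (F'.subtype.rTensor M) ∧
      ∀ F'' : Submodule R (Fin n → R), x ∈ LinearMap.range (F''.subtype.rTensor M) → F' ≤ F'') :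
    CAlg.IsMittagLeffler R M := by
  rw [ml_iff]
  intro ι Q _ _ t ht
  obtain ⟨k, m, q, rfl⟩ := TensorProduct.exists_sum_tmul_eq t
  let φ : (Fin k → R) →ₗ[R] ∀ i, Q i := (Pi.basisFun R (Fin k)).constr R q
  let x : (Fin k → R) ⊗[R] M := ∑ j, (Pi.single j 1 : Fin k → R) ⊗ₜ m j
  have hφ : ∀ j, φ (Pi.single j 1) = q j := fun j => by
    rw [← Pi.basisFun_apply]; exact Module.Basis.constr_basis _ _ _ _
  obtain ⟨F', hF', hmin⟩ := H k x
  have hle : F' ≤ LinearMap.ker φ := by
    intro z hz
    refine LinearMap.mem_ker.mpr (funext fun i => ?_)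
    let χ : (Fin k → R) →ₗ[R] Q i := LinearMap.proj i ∘ₗ φ
    have hx : χ.rTensor M x = 0 := by
      refine (TensorProduct.comm R (Q i) M).injective ?_
      simp only [x, χ, map_sum, LinearMap.rTensor_tmul, LinearMap.comp_apply, hφ,
        LinearMap.proj_apply, TensorProduct.comm_tmul, map_zero]
      simpa using ht i
    have h1 : χ.rangeRestrict.rTensor M x = 0 := by
      refine (injective_iff_map_eq_zero _).mp
        (Module.Flat.rTensor_preserves_injective_linearMap (M := M) _ (LinearMap.range χ).injective_subtype) _ ?_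
      rw [← LinearMap.comp_apply, ← LinearMap.rTensor_comp, LinearMap.subtype_comp_codRestrict, hx]
    have hex : Function.Exact (LinearMap.ker χ).subtype χ.rangeRestrict := by
      rw [LinearMap.exact_iff, LinearMap.ker_rangeRestrict, Submodule.range_subtype]
    exact hmin _ (((rTensor_exact (R := R) (M := ↥(LinearMap.ker χ)) (N := Fin k → R)
      (P := ↥(LinearMap.range χ)) M (f := (LinearMap.ker χ).subtype) (g := χ.rangeRestrict) hex
        χ.surjective_rangeRestrict) _).mp h1) hz
  obtain ⟨w, hw⟩ := hF'
  have h2 : φ.rTensor M x = 0 := by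
    rw [← hw, ← LinearMap.comp_apply, ← LinearMap.rTensor_comp,
      show φ ∘ₗ F'.subtype = 0 from LinearMap.ext fun z => LinearMap.mem_ker.mp (hle z.2),
      LinearMap.rTensor_zero, LinearMap.zero_apply]
  have := congrArg (TensorProduct.comm R (∀ i, Q i) M) h2
  simpa only [x, map_sum, LinearMap.rTensor_tmul, hφ, TensorProduct.comm_tmul, map_zero] using this

theorem flat_powers (hR : ∀ I : Ideal R, I.FG → Module.FinitePresentation R I) (A : Type u) :
    Module.Flat R (A → R) := by
  rw [Module.Flat.iff_rTensor_injective]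
  intro I hI
  have := hR I hI
  rw [injective_iff_map_eq_zero]
  intro t ht
  refine ml_iff.mp ml_of_fp A (fun _ => R) t fun a => ?_
  refine (TensorProduct.rid R I).injective (Subtype.ext ?_)
  have h1 := congrFun (congrArg (TensorProduct.piRightHom R R R (fun _ : A => R)) ht) a
  rw [piRightHom_rTensor, map_zero, Pi.zero_apply] at h1
  have h2 : ∀ z : (I : Submodule R R) ⊗[R] R,
      TensorProduct.rid R R (I.subtype.rTensor R z) = (TensorProduct.rid R I z : R) := fun z => by
    induction z using TensorProduct.induction_on with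
    | zero => simp
    | tmul a b => simp
    | add a b ha hb => simp only [map_add, ha, hb, Submodule.coe_add]
  rw [← h2, h1]
  simp

theorem fp_of_flat_powers (h : ∀ A : Type u, Module.Flat R (A → R)) (I : Ideal R) (hI : I.FG) :
    Module.FinitePresentation R I := by
  have : Module.Finite R I := Module.Finite.of_fg hI
  refine fp_of_bijective_powers fun ι => (injective_iff_map_eq_zero _).mpr fun t ht => ?_
  have := h ι
  refine (injective_iff_map_eq_zero _).mp
    (Module.Flat.rTensor_preserves_injective_linearMap (M := ι → R) _ (Submodule.injective_subtype I)) t ?_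
  refine piRightHom_injective_of_fp (M := R) (funext fun i => ?_)
  rw [piRightHom_rTensor, ht, Pi.zero_apply, map_zero, map_zero, Pi.zero_apply]

theorem ml_powers [IsNoetherianRing R] (A : Type u) : CAlg.IsMittagLeffler R (A → R) := by
  have := flat_powers (R := R) (fun I _ => Module.finitePresentation_of_finite R I) A
  refine ml_of_exists_smallest fun n x => ?_
  let c : A → (Fin n → R) := fun a =>
    TensorProduct.rid R _ (TensorProduct.piRightHom R R (Fin n → R) (fun _ : A => R) x a)
  let F' := Submodule.span R (Set.range c)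
  refine ⟨F', ?_, fun F'' hF'' => ?_⟩
  · obtain ⟨w, hw⟩ := piRightHom_surjective_of_finite (R := R) (M := ↥F') (Q := fun _ : A => R)
      (fun a => ⟨c a, Submodule.subset_span ⟨a, rfl⟩⟩ ⊗ₜ 1)
    refine ⟨w, (piRightHom_free_bijective (R := R) n).1 (funext fun a => (TensorProduct.rid R _).injective ?_)⟩
    rw [piRightHom_rTensor, hw]
    simp [c]
  · obtain ⟨w, hw⟩ := hF''
    rw [Submodule.span_le]
    rintro _ ⟨a, rfl⟩
    have := rid_proj_mem F'' w a
    rw [hw] at this
    exact this

/-- Flat target: universal injectivity is detected on cyclic finitely presented modules. -/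
theorem ui_iff_quotient_ideals {M' : Type u} [AddCommGroup M'] [Module R M'] [Module.Flat R M']
    (f : M →ₗ[R] M') :
    CAlgX.UniversallyInjective R f ↔ ∀ I : Ideal R, I.FG → Function.Injective (f.rTensor (R ⧸ I)) := by
  refine ⟨fun h I _ => h _, fun h => ?_⟩
  have hf : Function.Injective f := by
    intro a b hab
    have h1 : f.rTensor (R ⧸ (⊥ : Ideal R)) (a ⊗ₜ 1) = f.rTensor (R ⧸ (⊥ : Ideal R)) (b ⊗ₜ 1) := by simp [hab]
    have h2 := congrArg ((Submodule.quotEquivOfEqBot (⊥ : Ideal R) rfl).toLinearMap.lTensor M)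
      (h ⊥ Submodule.fg_bot h1)
    simp only [LinearMap.lTensor_tmul] at h2
    have h3 := congrArg (TensorProduct.rid R M) h2
    rw [TensorProduct.rid_tmul, TensorProduct.rid_tmul] at h3
    have h4 : (Submodule.quotEquivOfEqBot (⊥ : Ideal R) rfl).toLinearMap 1 = 1 := rfl
    rwa [h4, one_smul, one_smul] at h3
  let C := M' ⧸ LinearMap.range f
  have hex : Function.Exact f (LinearMap.range f).mkQ := LinearMap.exact_map_mkQ_range f
  suffices Module.Flat R C from ui_of_flat_quotient hf hex (Submodule.mkQ_surjective _)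
  rw [Module.Flat.iff_rTensor_injective]
  intro I hI
  rw [injective_iff_map_eq_zero]
  intro x hx
  obtain ⟨y, rfl⟩ := LinearMap.lTensor_surjective I (Submodule.mkQ_surjective (LinearMap.range f)) x
  rw [← LinearMap.comp_apply, LinearMap.rTensor_comp_lTensor, ← LinearMap.lTensor_comp_rTensor,
    LinearMap.comp_apply] at hx
  have hexR := lTensor_exact R hex (Submodule.mkQ_surjective _)
  obtain ⟨m, hm⟩ := (hexR _).mp hx
  have hexI : Function.Exact I.subtype (Submodule.mkQ I) := LinearMap.exact_subtype_mkQ I
  have hm0 : (Submodule.mkQ I).rTensor M m = 0 := by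
    refine (injective_iff_map_eq_zero _).mp ((LinearMap.lTensor_inj_iff_rTensor_inj _ f).mpr (h I hI)) _ ?_
    rw [← LinearMap.comp_apply, LinearMap.lTensor_comp_rTensor, ← LinearMap.rTensor_comp_lTensor,
      LinearMap.comp_apply, hm, ← LinearMap.comp_apply, ← LinearMap.rTensor_comp,
      hexI.linearMap_comp_eq_zero, LinearMap.rTensor_zero, LinearMap.zero_apply]
  obtain ⟨z, rfl⟩ := ((rTensor_exact (R := R) (M := ↥I) (N := R) (P := R ⧸ I) M (f := I.subtype)
    (g := Submodule.mkQ I) hexI (Submodule.mkQ_surjective I)) _).mp hm0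
  have hy : f.lTensor I z = y := by
    refine Module.Flat.rTensor_preserves_injective_linearMap (M := M') _ (Submodule.injective_subtype I) ?_
    rw [← hm, ← LinearMap.comp_apply, LinearMap.rTensor_comp_lTensor, ← LinearMap.lTensor_comp_rTensor,
      LinearMap.comp_apply]
  rw [← hy, ← LinearMap.comp_apply, ← LinearMap.lTensor_comp, hex.linearMap_comp_eq_zero,
    LinearMap.lTensor_zero, LinearMap.zero_apply]

end Groth.Agent.CAlgUI
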