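import Groth.Agent.CAlgUI.Approx
import Mathlib.LinearAlgebra.Prod

/-!
Factorization of maps out of finitely presented modules killing a given tensor.
-/

namespace Groth.Agent.CAlgUI

open TensorProduct

universe u v w

variable {R : Type u} [CommRing R]

theorem exists_fg_mem_range_rTensor {N : Type v} [AddCommGroup N] [Module R N]
    {F : Type w} [AddCommGroup F] [Module R F] (K : Submodule R F) (t : K ⊗[R] N) :
    ∃ K₀ : Submodule R F, K₀ ≤ K ∧ K₀.FG ∧
      K.subtype.rTensor N t ∈ LinearMap.range (K₀.subtype.rTensor N) := by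
  obtain ⟨K₀, h₀, hfg, w, hw⟩ := exists_fg_mem_range_lTensor K (TensorProduct.comm R K N t)
  refine ⟨K₀, h₀, hfg, TensorProduct.comm R N K₀ w, ?_⟩
  have e1 : ∀ z, K₀.subtype.rTensor N (TensorProduct.comm R N K₀ z) =
      TensorProduct.comm R N F (K₀.subtype.lTensor N z) := fun z => by
    induction z using TensorProduct.induction_on with
    | zero => simp
    | tmul a b => simp
    | add a b ha hb => simp only [map_add, ha, hb]
  have e2 : ∀ z, TensorProduct.comm R N F (K.subtype.lTensor N (TensorProduct.comm R K N z)) =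
      K.subtype.rTensor N z := fun z => by
    induction z using TensorProduct.induction_on with
    | zero => simp
    | tmul a b => simp
    | add a b ha hb => simp only [map_add, ha, hb]
  rw [e1, hw, e2]

theorem exists_finset_supported_map {V : Type v} [AddCommGroup V] [Module R V] {Q : Type w}
    {K : Submodule R (V × (Q →₀ R))} (hK : K.FG) :
    ∃ s : Finset Q, ∀ k ∈ K, extd R s (restr R s k.2) = k.2 := by
  obtain ⟨s, hs⟩ := exists_finset_supported (hK.map (LinearMap.snd R V (Q →₀ R)))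
  exact ⟨s, fun k hk => hs _ (Submodule.mem_map_of_mem (f := LinearMap.snd R V (Q →₀ R)) hk)⟩

theorem exists_fp_factor {P M Q : Type u} [AddCommGroup P] [Module R P] [Module.FinitePresentation R P]
    [AddCommGroup M] [Module R M] [AddCommGroup Q] [Module R Q] (f : P →ₗ[R] M) (x : P ⊗[R] Q)
    (hx : f.rTensor Q x = 0) :
    ∃ (P' : Type u) (_ : AddCommGroup P') (_ : Module R P') (_ : Module.FinitePresentation R P')
      (f' : P →ₗ[R] P') (h : P' →ₗ[R] M), f = h ∘ₗ f' ∧ f'.rTensor Q x = 0 := by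
  let p : P × (M →₀ R) →ₗ[R] M := f.coprod (Finsupp.linearCombination R id)
  have hp : Function.Surjective p := fun m => ⟨(0, Finsupp.single m 1), by simp [p]⟩
  have h1 : p.rTensor Q ((LinearMap.inl R P (M →₀ R)).rTensor Q x) = 0 := by
    rw [← LinearMap.comp_apply, ← LinearMap.rTensor_comp,
      show p ∘ₗ LinearMap.inl R P (M →₀ R) = f from LinearMap.coprod_inl _ _, hx]
  have hex : Function.Exact (LinearMap.ker p).subtype p := LinearMap.exact_subtype_ker_map p
  obtain ⟨t, ht⟩ := ((rTensor_exact (R := R) (M := ↥(LinearMap.ker p)) (N := P × (M →₀ R)) (P := M) Q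
    (f := (LinearMap.ker p).subtype) (g := p) hex hp) _).mp h1
  obtain ⟨K₀, hK₀, hK₀fg, hmem⟩ := exists_fg_mem_range_rTensor (LinearMap.ker p) t
  rw [ht] at hmem
  obtain ⟨w, hw⟩ := hmem
  obtain ⟨s, hs⟩ := exists_finset_supported_map hK₀fg
  let r : P × (M →₀ R) →ₗ[R] P × (s →₀ R) := LinearMap.id.prodMap (restr R s)
  let e : P × (s →₀ R) →ₗ[R] P × (M →₀ R) := LinearMap.id.prodMap (extd R s)
  have her : ∀ k ∈ K₀, e (r k) = k := fun k hk => Prod.ext rfl (hs k hk)
  let K' : Submodule R (P × (s →₀ R)) := K₀.map r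
  refine ⟨(P × (s →₀ R)) ⧸ K', inferInstance, inferInstance,
    Module.finitePresentation_of_surjective K'.mkQ K'.mkQ_surjective (by simpa [K'] using hK₀fg.map r),
    K'.mkQ ∘ₗ LinearMap.inl R P (s →₀ R), K'.liftQ (p ∘ₗ e) ?_, ?_, ?_⟩
  · rintro _ ⟨k, hk, rfl⟩
    rw [LinearMap.mem_ker, LinearMap.comp_apply, her k hk]
    exact hK₀ hk
  · refine LinearMap.ext fun a => ?_
    simp [e, p]
  · have hr : r ∘ₗ LinearMap.inl R P (M →₀ R) = LinearMap.inl R P (s →₀ R) :=
      LinearMap.ext fun a => by simp [r]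
    have hz : (K'.mkQ ∘ₗ r) ∘ₗ K₀.subtype = 0 := LinearMap.ext fun k =>
      (Submodule.Quotient.mk_eq_zero K').mpr (Submodule.mem_map_of_mem k.2)
    rw [← hr, ← LinearMap.comp_assoc, LinearMap.rTensor_comp, LinearMap.comp_apply, ← hw,
      ← LinearMap.comp_apply, ← LinearMap.rTensor_comp, hz, LinearMap.rTensor_zero, LinearMap.zero_apply]

end Groth.Agent.CAlgUI
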