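import Groth.Prelude.Def_Found
import Mathlib.LinearAlgebra.TensorProduct.Pi
import Mathlib.Algebra.Module.FinitePresentation
import Mathlib.LinearAlgebra.TensorProduct.RightExactness
import Groth.Agent.CAlgUI.Factor

/-!
Tensor products with products; finite and finitely presented modules.
-/

namespace Groth.Agent.CAlgUI

open TensorProduct

universe u

variable {R : Type u} [CommRing R]

section

variable {M N : Type u} [AddCommGroup M] [Module R M] [AddCommGroup N] [Module R N]
  {ι : Type u} {Q : ι → Type u} [∀ i, AddCommGroup (Q i)] [∀ i, Module R (Q i)]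

theorem piRightHom_eq_proj (t : M ⊗[R] (∀ i, Q i)) (i : ι) :
    TensorProduct.piRightHom R R M Q t i =
      (LinearMap.proj (R := R) (φ := Q) i).lTensor M t := by
  induction t using TensorProduct.induction_on with
  | zero => simp
  | tmul m q => simp
  | add a b ha hb => simp only [map_add, Pi.add_apply, ha, hb]

/-- Naturality of the comparison map. -/
theorem piRightHom_rTensor (f : M →ₗ[R] N) (t : M ⊗[R] (∀ i, Q i)) (i : ι) :
    TensorProduct.piRightHom R R N Q (f.rTensor _ t) i =
      f.rTensor (Q i) (TensorProduct.piRightHom R R M Q t i) := by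
  rw [piRightHom_eq_proj, piRightHom_eq_proj, ← LinearMap.comp_apply, LinearMap.lTensor_comp_rTensor,
    ← LinearMap.rTensor_comp_lTensor, LinearMap.comp_apply]

theorem piRightHom_free_bijective (n : ℕ) :
    Function.Bijective (TensorProduct.piRightHom R R (Fin n → R) Q) := by
  let c : ∀ (X : Type u) [AddCommGroup X] [Module R X], (Fin n → R) ⊗[R] X ≃ₗ[R] (Fin n → X) :=
    fun X _ _ => (TensorProduct.comm R (Fin n → R) X).trans (TensorProduct.piScalarRight R R X (Fin n))
  have hc : ∀ (t : (Fin n → R) ⊗[R] (∀ i, Q i)) (i : ι) (k : Fin n),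
      c (Q i) (TensorProduct.piRightHom R R (Fin n → R) Q t i) k = c _ t k i := by
    intro t i k
    induction t using TensorProduct.induction_on with
    | zero => simp
    | tmul m q => simp [c]
    | add a b ha hb => simp only [map_add, Pi.add_apply, ha, hb]
  constructor
  · intro s t hst
    refine (c _).injective (funext fun k => funext fun i => ?_)
    rw [← hc, ← hc, hst]
  · intro y
    refine ⟨(c _).symm fun k i => c (Q i) (y i) k, funext fun i => (c (Q i)).injective (funext fun k => ?_)⟩
    rw [hc, LinearEquiv.apply_symm_apply]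

theorem piRightHom_surjective_of_finite [Module.Finite R M] :
    Function.Surjective (TensorProduct.piRightHom R R M Q) := by
  obtain ⟨n, f, hf⟩ := Module.Finite.exists_fin' R M
  intro y
  choose x hx using fun i => LinearMap.rTensor_surjective (Q i) hf (y i)
  obtain ⟨t, ht⟩ := (piRightHom_free_bijective (R := R) n).2 x
  exact ⟨f.rTensor _ t, funext fun i => by rw [piRightHom_rTensor, ht, hx]⟩

theorem piRightHom_injective_of_fp [Module.FinitePresentation R M] :
    Function.Injective (TensorProduct.piRightHom R R M Q) := by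
  obtain ⟨n, m, p, b, hp, hex⟩ := Module.FinitePresentation.exists_fin' R M
  rw [injective_iff_map_eq_zero]
  intro t ht
  obtain ⟨u, rfl⟩ := LinearMap.rTensor_surjective _ hp t
  have : ∀ i, p.rTensor (Q i) (TensorProduct.piRightHom R R _ Q u i) = 0 := fun i => by
    rw [← piRightHom_rTensor, ht, Pi.zero_apply]
  choose w hw using fun i => ((rTensor_exact (Q i) hex hp) _).mp (this i)
  obtain ⟨v, hv⟩ := (piRightHom_free_bijective (R := R) m).2 w
  have : u = b.rTensor _ v := (piRightHom_free_bijective (R := R) n).1 (funext fun i => by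
    rw [piRightHom_rTensor, hv, hw])
  rw [this, ← LinearMap.comp_apply, ← LinearMap.rTensor_comp,
    show p ∘ₗ b = 0 from hex.linearMap_comp_eq_zero, LinearMap.rTensor_zero, LinearMap.zero_apply]

theorem piRightHom_bijective_of_fp [Module.FinitePresentation R M] :
    Function.Bijective (TensorProduct.piRightHom R R M Q) :=
  ⟨piRightHom_injective_of_fp, piRightHom_surjective_of_finite⟩

end

variable {M : Type u} [AddCommGroup M] [Module R M]

theorem ml_of_fp [Module.FinitePresentation R M] : CAlg.IsMittagLeffler R M :=
  fun _ _ _ _ => piRightHom_injective_of_fp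

theorem rid_proj_mem {ι : Type u} (N : Submodule R M) (w : N ⊗[R] (ι → R)) (i : ι) :
    TensorProduct.rid R M (TensorProduct.piRightHom R R M (fun _ : ι => R) (N.subtype.rTensor _ w) i) ∈ N := by
  induction w using TensorProduct.induction_on with
  | zero => simp
  | tmul a q => simpa using N.smul_mem _ a.2
  | add a b ha hb => simpa only [map_add, Pi.add_apply] using N.add_mem ha hb

/-- Surjectivity for powers of `R` forces finite generation. -/
theorem finite_of_surjective_powers
    (h : Function.Surjective (TensorProduct.piRightHom R R M (fun _ : M => R))) : Module.Finite R M := by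
  obtain ⟨t, ht⟩ := h fun x => x ⊗ₜ 1
  obtain ⟨t', rfl⟩ : ∃ t', (⊤ : Submodule R M).subtype.rTensor _ t' = t :=
    LinearMap.rTensor_surjective _ (fun x => ⟨⟨x, trivial⟩, rfl⟩) t
  obtain ⟨N, -, hN, w, hw⟩ := exists_fg_mem_range_rTensor ⊤ t'
  refine ⟨?_⟩
  convert hN
  refine (eq_top_iff.mpr fun x _ => ?_).symm
  have := rid_proj_mem N w x
  rw [hw, ht] at this
  simpa using this

/-- Bijectivity for powers of `R` forces finite presentation. -/
theorem fp_of_bijective_powers [Module.Finite R M]
    (h : ∀ ι : Type u, Function.Injective (TensorProduct.piRightHom R R M (fun _ : ι => R))) :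
    Module.FinitePresentation R M := by
  obtain ⟨n, p, hp⟩ := Module.Finite.exists_fin' R M
  refine Module.finitePresentation_of_surjective p hp ?_
  let K := LinearMap.ker p
  obtain ⟨t, ht⟩ := (piRightHom_free_bijective (R := R) (ι := ↥K) (Q := fun _ => R) n).2
    fun k => (k : Fin n → R) ⊗ₜ 1
  have h0 : p.rTensor _ t = 0 := h _ (funext fun k => by
    rw [piRightHom_rTensor, ht, map_zero, Pi.zero_apply, LinearMap.rTensor_tmul,
      LinearMap.mem_ker.mp k.2, TensorProduct.zero_tmul])
  obtain ⟨w, rfl⟩ := ((rTensor_exact (R := R) (M := ↥K) (N := Fin n → R) (P := M) _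
    (f := K.subtype) (g := p) (LinearMap.exact_subtype_ker_map p) hp) _).mp h0
  obtain ⟨K₀, hK₀, hfg, w₀, hw₀⟩ := exists_fg_mem_range_rTensor K w
  suffices hh : K = K₀ by exact (congrArg Submodule.FG hh).mpr hfg
  refine le_antisymm (fun k hk => ?_) hK₀
  have := rid_proj_mem K₀ w₀ ⟨k, hk⟩
  rw [hw₀, ht] at this
  simpa using this

end Groth.Agent.CAlgUI
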