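import Groth.Agent.CAlgUI.Flat
import Groth.Agent.CAlgUI.Pieces
import Mathlib.LinearAlgebra.TensorProduct.Finiteness

/-!
Mittag-Leffler modules.
-/

namespace Groth.Agent.CAlgUI

open TensorProduct

universe u

variable {R : Type u} [CommRing R] {M : Type u} [AddCommGroup M] [Module R M]

theorem ml_iff : CAlg.IsMittagLeffler R M ↔ ∀ (ι : Type u) (Q : ι → Type u) [∀ i, AddCommGroup (Q i)]
    [∀ i, Module R (Q i)] (t : M ⊗[R] (∀ i, Q i)),
    (∀ i, TensorProduct.piRightHom R R M Q t i = 0) → t = 0 := by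
  refine ⟨fun h ι Q _ _ t ht => ?_, fun h ι Q _ _ => ?_⟩
  · exact h ι Q (funext fun i => by rw [ht i, map_zero, Pi.zero_apply])
  · exact (injective_iff_map_eq_zero _).mpr fun t ht => h ι Q t fun i => congrFun ht i

theorem exists_fin_rTensor {X : Type u} [AddCommGroup X] [Module R X] (t : M ⊗[R] X) :
    ∃ (n : ℕ) (f : (Fin n → R) →ₗ[R] M) (u : (Fin n → R) ⊗[R] X), f.rTensor X u = t := by
  obtain ⟨k, m, x, rfl⟩ := TensorProduct.exists_sum_tmul_eq t
  refine ⟨k, (Pi.basisFun R (Fin k)).constr R m, ∑ j, (Pi.single j 1 : Fin k → R) ⊗ₜ x j, ?_⟩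
  simp only [map_sum, LinearMap.rTensor_tmul]
  refine Finset.sum_congr rfl fun j _ => ?_
  congr 1
  rw [← Pi.basisFun_apply]
  exact Module.Basis.constr_basis _ _ _ _

theorem dom_iff_presented {P N M' : Type u} [AddCommGroup P] [Module R P] [AddCommGroup N] [Module R N]
    [AddCommGroup M'] [Module R M'] (f : P →ₗ[R] N) (g : P →ₗ[R] M') :
    Dom f g ↔ ∀ (n m : ℕ) (a : Fin n → Fin m → R),
      LinearMap.ker (f.rTensor (Presented a)) ≤ LinearMap.ker (g.rTensor (Presented a)) := by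
  refine ⟨fun h n m a => h _, fun h => (dom_iff_fp f g).mpr fun Q _ _ hQ => ?_⟩
  obtain ⟨n, m, p, b, hp, hex⟩ := Module.FinitePresentation.exists_fin' R Q
  let a : Fin n → Fin m → R := fun i j => LinearMap.toMatrix' b i j
  have ha : Matrix.mulVecLin (Matrix.of a) = b := Matrix.toLin'_toMatrix' b
  let e : Presented a ≃ₗ[R] Q :=
    (Submodule.quotEquivOfEq _ _ (by rw [ha, ← LinearMap.exact_iff.mp hex])).trans
      (p.quotKerEquivOfSurjective hp)
  intro x hx
  obtain ⟨x, rfl⟩ := (LinearEquiv.lTensor P e).surjective x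
  rw [LinearMap.mem_ker, ← LinearEquiv.coe_toLinearMap, LinearEquiv.coe_lTensor, ← LinearMap.comp_apply,
    LinearMap.rTensor_comp_lTensor, ← LinearMap.lTensor_comp_rTensor, LinearMap.comp_apply,
    ← LinearEquiv.coe_lTensor, LinearEquiv.coe_toLinearMap, LinearEquiv.map_eq_zero_iff] at hx ⊢
  exact h n m a hx

theorem exists_glue {P : Type u} [AddCommGroup P] [Module R P] [Module.FinitePresentation R P]
    (hM : CAlg.IsMittagLeffler R M) (f : P →ₗ[R] M) {ι : Type u} (Q : ι → Type u)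
    [∀ i, AddCommGroup (Q i)] [∀ i, Module R (Q i)] (y : ∀ i, P ⊗[R] Q i)
    (hy : ∀ i, f.rTensor (Q i) (y i) = 0) :
    ∃ x : P ⊗[R] (∀ i, Q i), f.rTensor _ x = 0 ∧
      ∀ (P' : Type u) [AddCommGroup P'] [Module R P'] (g : P →ₗ[R] P'), g.rTensor _ x = 0 →
        ∀ i, g.rTensor (Q i) (y i) = 0 := by
  obtain ⟨x, hx⟩ := (piRightHom_bijective_of_fp (R := R) (M := P) (Q := Q)).2 y
  refine ⟨x, ml_iff.mp hM ι Q _ fun i => by rw [piRightHom_rTensor, hx, hy], fun P' _ _ g hg i => ?_⟩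
  rw [← hx, ← piRightHom_rTensor, hg, map_zero, Pi.zero_apply]

/-- An element witnessing all kernels of `f ⊗ Q`: killing it is dominating `f`. -/
theorem exists_universal {P : Type u} [AddCommGroup P] [Module R P] [Module.FinitePresentation R P]
    (hM : CAlg.IsMittagLeffler R M) (f : P →ₗ[R] M) :
    ∃ (ι : Type u) (Q : ι → Type u) (_ : ∀ i, AddCommGroup (Q i)) (_ : ∀ i, Module R (Q i))
      (x : P ⊗[R] (∀ i, Q i)), f.rTensor _ x = 0 ∧
      ∀ (P' : Type u) [AddCommGroup P'] [Module R P'] (g : P →ₗ[R] P'), g.rTensor _ x = 0 → Dom f g := by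
  obtain ⟨x, hx, hx'⟩ := exists_glue hM f
    (ι := Σ (n : ℕ) (m : ℕ) (a : Fin n → Fin m → R), LinearMap.ker (f.rTensor (Presented a)))
    (fun i => Presented i.2.2.1) (fun i => i.2.2.2.1) (fun i => i.2.2.2.2)
  exact ⟨_, _, inferInstance, inferInstance, x, hx, fun P' _ _ g hg =>
    (dom_iff_presented f g).mpr fun n m a y hy => hx' P' g hg ⟨n, m, a, ⟨y, hy⟩⟩⟩

/-- Domination criterion, strong form. -/
theorem exists_dominating (hM : CAlg.IsMittagLeffler R M) {P : Type u} [AddCommGroup P] [Module R P]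
    [Module.FinitePresentation R P] (f : P →ₗ[R] M) :
    ∃ (P' : Type u) (_ : AddCommGroup P') (_ : Module R P') (_ : Module.FinitePresentation R P')
      (g : P →ₗ[R] P') (h : P' →ₗ[R] M), f = h ∘ₗ g ∧
      ∀ (N : Type u) [AddCommGroup N] [Module R N],
        LinearMap.ker (f.rTensor N) = LinearMap.ker (g.rTensor N) := by
  obtain ⟨ι, Q, _, _, x, hx, huniv⟩ := exists_universal hM f
  obtain ⟨P', _, _, hP', g, h, rfl, hg⟩ := exists_fp_factor f x hx
  refine ⟨P', inferInstance, inferInstance, hP', g, h, rfl, fun N _ _ => le_antisymm (huniv P' g hg N) ?_⟩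
  rw [LinearMap.rTensor_comp]
  exact LinearMap.ker_le_ker_comp _ _

theorem ml_of_dominating (H : ∀ (n : ℕ) (f : (Fin n → R) →ₗ[R] M),
    ∃ (Q : Type u) (_ : AddCommGroup Q) (_ : Module R Q) (_ : Module.FinitePresentation R Q)
      (g : (Fin n → R) →ₗ[R] Q), ∀ (N : Type u) [AddCommGroup N] [Module R N],
        LinearMap.ker (f.rTensor N) = LinearMap.ker (g.rTensor N)) :
    CAlg.IsMittagLeffler R M := by
  rw [ml_iff]
  intro ι Q _ _ t ht
  obtain ⟨n, f, u, rfl⟩ := exists_fin_rTensor t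
  obtain ⟨Q', _, _, hQ', g, hg⟩ := H n f
  have : g.rTensor _ u = 0 := ml_iff.mp ml_of_fp ι Q _ fun i => by
    rw [piRightHom_rTensor, ← LinearMap.mem_ker, ← hg, LinearMap.mem_ker, ← piRightHom_rTensor, ht]
  rw [← LinearMap.mem_ker, hg, LinearMap.mem_ker, this]

theorem ml_of_ui {N : Type u} [AddCommGroup N] [Module R N] (f : M →ₗ[R] N)
    (hf : CAlgX.UniversallyInjective R f) (h : CAlg.IsMittagLeffler R N) : CAlg.IsMittagLeffler R M := by
  rw [ml_iff]
  intro ι Q _ _ t ht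
  refine (injective_iff_map_eq_zero _).mp (hf _) t (ml_iff.mp h ι Q _ fun i => ?_)
  rw [piRightHom_rTensor, ht, map_zero]

end Groth.Agent.CAlgUI
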