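import Groth.Agent.CAlgUI.Limit
import Mathlib.LinearAlgebra.TensorProduct.Tower
import Mathlib.RingTheory.Flat.FaithfullyFlat.Basic
import Mathlib.RingTheory.Finiteness.ModuleFinitePresentation

/-!
Mittag-Leffler modules and change of rings.
-/

namespace Groth.Agent.CAlgUI

open TensorProduct

universe u

variable {R S : Type u} [CommRing R] [CommRing S] [Algebra R S]

theorem ml_baseChange {M : Type u} [AddCommGroup M] [Module R M] (hM : CAlg.IsMittagLeffler R M) :
    CAlg.IsMittagLeffler S (S ⊗[R] M) := by
  rw [ml_iff]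
  intro ι Q _ _ t ht
  letI : ∀ i, Module R (Q i) := fun i => Module.compHom (Q i) (algebraMap R S)
  haveI : ∀ i, IsScalarTower R S (Q i) := fun i => IsScalarTower.of_compHom R S (Q i)
  let e : ∀ (X : Type u) [AddCommGroup X] [Module S X] [Module R X] [IsScalarTower R S X],
      (S ⊗[R] M) ⊗[S] X ≃ₗ[R] M ⊗[R] X := fun X _ _ _ _ =>
    (((TensorProduct.comm S (S ⊗[R] M) X).trans
      (TensorProduct.AlgebraTensorModule.cancelBaseChange R S S X M)).restrictScalars R).trans
        (TensorProduct.comm R X M)
  have he : ∀ (s : (S ⊗[R] M) ⊗[S] (∀ i, Q i)) (i : ι),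
      TensorProduct.piRightHom R R M Q (e _ s) i = e (Q i) (TensorProduct.piRightHom S S _ Q s i) := by
    intro s i
    induction s using TensorProduct.induction_on with
    | zero => simp
    | tmul a q =>
      induction a using TensorProduct.induction_on with
      | zero => simp
      | tmul a m => simp [e]
      | add a b ha hb =>
        simp only [TensorProduct.add_tmul, map_add, Pi.add_apply, ha, hb]
    | add a b ha hb => simp only [map_add, Pi.add_apply, ha, hb]
  refine (e _).injective ?_
  rw [map_zero]
  exact ml_iff.mp hM ι Q _ fun i => by rw [he, ht, map_zero]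

variable {M : Type u} [AddCommGroup M] [Module S M] [Module R M] [IsScalarTower R S M]

theorem ml_restrict (hM : CAlg.IsMittagLeffler S M)
    (hS : ∀ (ι : Type u) (Q : ι → Type u) [∀ i, AddCommGroup (Q i)] [∀ i, Module R (Q i)],
      Function.Injective ((TensorProduct.piRightHom R S S Q).lTensor M)) :
    CAlg.IsMittagLeffler R M := by
  rw [ml_iff]
  intro ι Q _ _ t ht
  let e : ∀ (X : Type u) [AddCommGroup X] [Module R X], M ⊗[S] (S ⊗[R] X) ≃ₗ[R] M ⊗[R] X :=
    fun X _ _ => (TensorProduct.AlgebraTensorModule.cancelBaseChange R S S M X).restrictScalars R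
  obtain ⟨s, rfl⟩ := (e _).surjective t
  have he : ∀ i, e (Q i) (TensorProduct.piRightHom S S M (fun i => S ⊗[R] Q i)
      ((TensorProduct.piRightHom R S S Q).lTensor M s) i) =
        TensorProduct.piRightHom R R M Q (e _ s) i := by
    intro i
    clear ht
    induction s using TensorProduct.induction_on with
    | zero => simp
    | tmul m a =>
      induction a using TensorProduct.induction_on with
      | zero => simp
      | tmul a q => simp [e]
      | add a b ha hb => simp only [TensorProduct.tmul_add, map_add, Pi.add_apply, ha, hb]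
    | add a b ha hb => simp only [map_add, Pi.add_apply, ha, hb]
  have h0 : (TensorProduct.piRightHom R S S Q).lTensor M s = 0 :=
    ml_iff.mp hM ι _ _ fun i => (e (Q i)).injective (by rw [he, ht, map_zero])
  rw [(injective_iff_map_eq_zero _).mp (hS ι Q) s h0, map_zero]

theorem ml_restrict_of_flat (hS : CAlg.IsMittagLeffler R S) [Module.Flat S M]
    (hM : CAlg.IsMittagLeffler S M) : CAlg.IsMittagLeffler R M :=
  ml_restrict hM fun ι Q _ _ =>
    Module.Flat.lTensor_preserves_injective_linearMap _ (hS ι Q)

theorem ml_restrict_of_fp [Module.FinitePresentation R S] (hM : CAlg.IsMittagLeffler S M) :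
    CAlg.IsMittagLeffler R M :=
  ml_restrict hM fun ι Q _ _ => by
    have hb : Function.Bijective (TensorProduct.piRightHom R S S Q) :=
      piRightHom_bijective_of_fp (R := R) (M := S) (Q := Q)
    exact ((LinearEquiv.ofBijective _ hb).lTensor M).injective

theorem ml_of_faithfullyFlat [Module.FaithfullyFlat R S] {M : Type u} [AddCommGroup M] [Module R M]
    (hM : CAlg.IsMittagLeffler S (S ⊗[R] M)) : CAlg.IsMittagLeffler R M := by
  rw [ml_iff]
  intro ι Q _ _ t ht
  let φ : ∀ i, Q i →ₗ[R] S ⊗[R] Q i := fun i => TensorProduct.mk R S (Q i) 1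
  have hφ : ∀ i, CAlgX.UniversallyInjective R (φ i) := fun i X _ _ => by
    have hX := Module.FaithfullyFlat.tensorProduct_mk_injective (A := R) (B := S) (Q i ⊗[R] X)
    refine Function.Injective.of_comp (f := TensorProduct.assoc R S (Q i) X) ?_
    convert hX using 1
    funext z
    induction z using TensorProduct.induction_on with
    | zero => simp
    | tmul a b => simp [φ]
    | add a b ha hb => simp only [Function.comp_apply, map_add] at ha hb ⊢; rw [ha, hb]
  let ψ : (∀ i, Q i) →ₗ[R] ∀ i, S ⊗[R] Q i := LinearMap.pi fun i => φ i ∘ₗ LinearMap.proj i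
  have hψ : Function.Injective (ψ.lTensor M) :=
    (LinearMap.lTensor_inj_iff_rTensor_inj _ ψ).mpr (ui_pi φ hφ M)
  refine (injective_iff_map_eq_zero _).mp hψ t ?_
  let e : ∀ (X : Type u) [AddCommGroup X] [Module S X] [Module R X] [IsScalarTower R S X],
      (S ⊗[R] M) ⊗[S] X ≃ₗ[R] M ⊗[R] X := fun X _ _ _ _ =>
    (((TensorProduct.comm S (S ⊗[R] M) X).trans
      (TensorProduct.AlgebraTensorModule.cancelBaseChange R S S X M)).restrictScalars R).trans
        (TensorProduct.comm R X M)
  obtain ⟨s, hs⟩ := (e _).surjective (ψ.lTensor M t)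
  have he : ∀ (s : (S ⊗[R] M) ⊗[S] (∀ i, S ⊗[R] Q i)) (i : ι),
      TensorProduct.piRightHom R R M (fun i => S ⊗[R] Q i) (e _ s) i =
        e _ (TensorProduct.piRightHom S S _ (fun i => S ⊗[R] Q i) s i) := by
    intro s i
    induction s using TensorProduct.induction_on with
    | zero => simp
    | tmul a q =>
      induction a using TensorProduct.induction_on with
      | zero => simp
      | tmul a m => simp [e]
      | add a b ha hb =>
        simp only [TensorProduct.add_tmul, map_add, Pi.add_apply, ha, hb]
    | add a b ha hb => simp only [map_add, Pi.add_apply, ha, hb]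
  have h0 : s = 0 := ml_iff.mp hM ι _ s fun i => (e _).injective (by
    rw [← he, hs, map_zero, piRightHom_eq_proj, ← LinearMap.comp_apply, ← LinearMap.lTensor_comp,
      show LinearMap.proj i ∘ₗ ψ = φ i ∘ₗ LinearMap.proj i from LinearMap.proj_pi _ _,
      LinearMap.lTensor_comp, LinearMap.comp_apply, ← piRightHom_eq_proj, ht, map_zero])
  rw [← hs, h0, map_zero]

end Groth.Agent.CAlgUI
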