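import Mathlib.Data.Set.Countable
import Mathlib.Data.Nat.Init

/-! Countable closures. -/

namespace Groth.Agent.CAlgUI

universe u

theorem exists_countable_closed {ι : Type u} (s₀ : Set ι) (h₀ : s₀.Countable) (j : ι → ι)
    (ub : ι → ι → ι) :
    ∃ S : Set ι, s₀ ⊆ S ∧ S.Countable ∧ (∀ i ∈ S, j i ∈ S) ∧ ∀ a ∈ S, ∀ b ∈ S, ub a b ∈ S := by
  let T : ℕ → Set ι := fun n => Nat.rec s₀ (fun _ A => A ∪ j '' A ∪ Set.image2 ub A A) n
  have hT : ∀ n, T (n + 1) = T n ∪ j '' T n ∪ Set.image2 ub (T n) (T n) := fun n => rfl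
  have hmono : ∀ {m n}, m ≤ n → T m ⊆ T n := by
    intro m n h
    induction h with
    | refl => exact subset_rfl
    | step _ ih =>
      refine ih.trans ?_
      rw [hT]
      exact Set.subset_union_left.trans Set.subset_union_left
  have hc : ∀ n, (T n).Countable := by
    intro n
    induction n with
    | zero => exact h₀
    | succ n ih => rw [hT]; exact (ih.union (ih.image _)).union (Set.Countable.image2 ih ih ub)
  refine ⟨⋃ n, T n, Set.subset_iUnion_of_subset 0 subset_rfl, Set.countable_iUnion hc, ?_, ?_⟩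
  · intro i hi
    obtain ⟨n, hn⟩ := Set.mem_iUnion.1 hi
    exact Set.mem_iUnion.2 ⟨n + 1, by rw [hT]; exact Or.inl (Or.inr ⟨i, hn, rfl⟩)⟩
  · intro a ha b hb
    obtain ⟨m, hm⟩ := Set.mem_iUnion.1 ha
    obtain ⟨n, hn⟩ := Set.mem_iUnion.1 hb
    refine Set.mem_iUnion.2 ⟨max m n + 1, ?_⟩
    rw [hT]
    exact Or.inr ⟨a, hmono (le_max_left _ _) hm, b, hmono (le_max_right _ _) hn, rfl⟩

theorem exists_countable_closed_set {ι : Type u} (s₀ : Set ι) (h₀ : s₀.Countable) (D : ι → Set ι)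
    (hD : ∀ i, (D i).Countable) :
    ∃ S : Set ι, s₀ ⊆ S ∧ S.Countable ∧ ∀ i ∈ S, D i ⊆ S := by
  let T : ℕ → Set ι := fun n => Nat.rec s₀ (fun _ A => A ∪ ⋃ i ∈ A, D i) n
  have hT : ∀ n, T (n + 1) = T n ∪ ⋃ i ∈ T n, D i := fun n => rfl
  have hc : ∀ n, (T n).Countable := by
    intro n
    induction n with
    | zero => exact h₀
    | succ n ih => rw [hT]; exact ih.union (ih.biUnion fun i _ => hD i)
  refine ⟨⋃ n, T n, Set.subset_iUnion_of_subset 0 subset_rfl, Set.countable_iUnion hc,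
    fun i hi x hx => ?_⟩
  obtain ⟨n, hn⟩ := Set.mem_iUnion.1 hi
  exact Set.mem_iUnion.2 ⟨n + 1, by rw [hT]; exact Or.inr (Set.mem_biUnion hn hx)⟩

end Groth.Agent.CAlgUI
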