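import Groth.Agent.CAlgUI.Devissage
import Groth.Agent.CAlgUI.Closure
import Mathlib.SetTheory.Cardinal.Order
import Mathlib.LinearAlgebra.Projection

/-! Kaplansky: summands of direct sums of countably generated modules. -/

namespace Groth.Agent.CAlgUI

open DirectSum
open scoped Classical

universe u

variable {R : Type u} [CommRing R] {M : Type u} [AddCommGroup M] [Module R M]

theorem exists_proj_of_isInternal {ι : Type u} (N : ι → Submodule R M) (hN : DirectSum.IsInternal N)
    (J : Set ι) :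
    ∃ π : M →ₗ[R] M, (∀ x ∈ ⨆ i ∈ J, N i, π x = x) ∧ (∀ x, π x ∈ ⨆ i ∈ J, N i) ∧
      ∀ i, i ∉ J → ∀ y ∈ N i, π y = 0 := by
  classical
  let e : (⨁ i, N i) ≃ₗ[R] M := LinearEquiv.ofBijective (DirectSum.coeLinearMap N) hN
  let F : (⨁ i, N i) →ₗ[R] M :=
    DirectSum.toModule R ι M fun i => if i ∈ J then (N i).subtype else 0
  refine ⟨F ∘ₗ e.symm.toLinearMap, fun x hx => ?_, fun x => ?_, fun i hi y hy => ?_⟩
  · suffices h : (⨆ i ∈ J, N i) ≤ LinearMap.eqLocus (F ∘ₗ e.symm.toLinearMap) LinearMap.id from h hx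
    refine iSup₂_le fun i hi y hy => ?_
    have he : e.symm y = DirectSum.lof R ι (fun i => N i) i ⟨y, hy⟩ := by
      rw [LinearEquiv.symm_apply_eq]
      exact (DirectSum.coeLinearMap_of N i ⟨y, hy⟩).symm
    simp [LinearMap.mem_eqLocus, F, he, hi]
  · suffices h : LinearMap.range F ≤ ⨆ i ∈ J, N i from h ⟨_, rfl⟩
    rintro _ ⟨z, rfl⟩
    induction z using DirectSum.induction_on with
    | zero => simp
    | of i y =>
      rw [← DirectSum.lof_eq_of R]
      simp only [F, DirectSum.toModule_lof]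
      split_ifs with hi
      · exact le_iSup₂ (f := fun j (_ : j ∈ J) => N j) i hi y.2
      · simp
    | add a b ha hb => rw [map_add]; exact add_mem ha hb
  · have he : e.symm y = DirectSum.lof R ι (fun i => N i) i ⟨y, hy⟩ := by
      rw [LinearEquiv.symm_apply_eq]
      exact (DirectSum.coeLinearMap_of N i ⟨y, hy⟩).symm
    simp [F, he, hi]

theorem kaplansky_devissage {P : Type u} [AddCommGroup P] [Module R P]
    {ι : Type u} [LinearOrder ι] [WellFoundedLT ι] (N : ι → Submodule R M)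
    (hN : DirectSum.IsInternal N) (hc : ∀ i, CAlg.IsCountablyGenerated R (N i))
    (incl : P →ₗ[R] M) (q : M →ₗ[R] P) (hq : ∀ x, q (incl x) = x) :
    ∃ (κ : Type u) (L : κ → Submodule R P), DirectSum.IsInternal L ∧
      ∀ k, CAlg.IsCountablyGenerated R (L k) := by
  classical
  let p : M →ₗ[R] M := incl ∘ₗ q
  choose gen hgenc hgen using fun i => exists_countable_span_of_isCountablyGenerated (hc i)
  have hmem : ∀ m : M, ∃ T : Finset ι, m ∈ ⨆ i ∈ T, N i := fun m =>
    Submodule.mem_iSup_iff_exists_finset.1 (by rw [hN.submodule_iSup_eq_top]; trivial)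
  choose T hT using hmem
  let D : ι → Set ι := fun i => ⋃ g ∈ gen i, (T (p g) : Set ι)
  have hDc : ∀ i, (D i).Countable := fun i =>
    (hgenc i).biUnion fun g _ => (T (p g)).countable_toSet
  choose c hc₀ hcc hcD using fun i =>
    exists_countable_closed_set ({i} : Set ι) (Set.countable_singleton i) D hDc
  let J : WithTop ι → Set ι := fun s => ⋃ i ∈ {i : ι | (i : WithTop ι) < s}, c i
  let MJ : Set ι → Submodule R M := fun A => ⨆ i ∈ A, N i
  have hJclosed : ∀ s, ∀ i ∈ J s, D i ⊆ J s := by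
    intro s i hi x hx
    obtain ⟨a, ha, hia⟩ := Set.mem_iUnion₂.1 hi
    exact Set.mem_iUnion₂.2 ⟨a, ha, hcD a i hia hx⟩
  have hstable : ∀ s, MJ (J s) ≤ (MJ (J s)).comap p := by
    intro s
    refine iSup₂_le fun i hi => ?_
    rw [← hgen i, Submodule.span_le]
    intro g hg
    refine (biSup_mono (f := N) fun j hj => ?_ : (⨆ j ∈ T (p g), N j) ≤ MJ (J s)) (hT (p g))
    exact hJclosed s i hi (Set.mem_biUnion hg hj)
  let Pf : WithTop ι → Submodule R P := fun s => (MJ (J s)).map q
  have hJmono : Monotone J := fun s t h => Set.biUnion_subset_biUnion_left fun i hi => lt_of_lt_of_le hi h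
  have hmono : Monotone Pf := fun s t h => Submodule.map_mono (biSup_mono fun i hi => hJmono h hi)
  have hlim : ∀ s, Order.IsSuccPrelimit s → Pf s = ⨆ t : {t // t < s}, Pf t.1 := by
    intro s hs
    refine le_antisymm ?_ (iSup_le fun t => hmono t.2.le)
    rw [show (⨆ t : {t // t < s}, Pf t.1) = (⨆ t : {t // t < s}, MJ (J t.1)).map q from
      (Submodule.map_iSup _ _).symm]
    refine Submodule.map_mono (iSup₂_le fun i hi => ?_)
    obtain ⟨a, ha, hia⟩ := Set.mem_iUnion₂.1 hi
    obtain ⟨t, hat, hts⟩ : ∃ t, (a : WithTop ι) < t ∧ t < s := by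
      by_contra hcon
      exact hs _ ⟨ha, fun c h1 h2 => hcon ⟨c, h1, h2⟩⟩
    exact (le_iSup₂ (f := fun j (_ : j ∈ J t) => N j) i (Set.mem_iUnion₂.2 ⟨a, hat, hia⟩)).trans
      (le_iSup (fun t : {t // t < s} => MJ (J t.1)) ⟨t, hts⟩)
  have htop : (⨆ s, Pf s) = ⊤ := by
    rw [eq_top_iff]
    refine le_trans ?_ (le_iSup Pf ⊤)
    intro x _
    refine ⟨incl x, ?_, hq x⟩
    refine (?_ : (⨆ i, N i) ≤ MJ (J ⊤)) (by rw [hN.submodule_iSup_eq_top]; trivial)
    exact iSup_le fun i => le_iSup₂ (f := fun j (_ : j ∈ J ⊤) => N j) i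
      (Set.mem_iUnion₂.2 ⟨i, WithTop.coe_lt_top i, hc₀ i rfl⟩)
  have hstep : ∀ s t : WithTop ι, s ⋖ t → ∃ C : Submodule R P,
      Pf s ⊓ C = ⊥ ∧ Pf s ⊔ C = Pf t ∧ CAlg.IsCountablyGenerated R C := by
    intro s t hst
    cases s with
    | top => exact absurd hst.lt not_top_lt
    | coe a =>
      obtain ⟨π, hπ₁, hπ₂, -⟩ := exists_proj_of_isInternal N (by convert hN) (J a)
      let ρ : P →ₗ[R] P := q ∘ₗ π ∘ₗ incl
      have hρ₁ : ∀ y ∈ Pf a, ρ y = y := by
        rintro _ ⟨m, hm, rfl⟩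
        simp only [ρ, LinearMap.comp_apply]
        rw [hπ₁ (incl (q m)) (hstable a hm), hq]
      have hρ₂ : ∀ y, ρ y ∈ Pf a := fun y => ⟨_, hπ₂ _, rfl⟩
      have hJt : J t ⊆ J a ∪ c a := by
        intro x hx
        obtain ⟨i, hi, hix⟩ := Set.mem_iUnion₂.1 hx
        rcases lt_or_eq_of_le (not_lt.1 fun h => hst.2 h hi) with h | h
        · exact Or.inl (Set.mem_iUnion₂.2 ⟨i, h, hix⟩)
        · obtain rfl : i = a := WithTop.coe_eq_coe.1 h
          exact Or.inr hix
      have hca : c a ⊆ J t := fun x hx => Set.mem_iUnion₂.2 ⟨a, hst.lt, hx⟩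
      have hC : (Pf t).map (LinearMap.id - ρ) = ((MJ (c a)).map q).map (LinearMap.id - ρ) := by
        refine le_antisymm ?_ (Submodule.map_mono (Submodule.map_mono (biSup_mono fun i hi => hca hi)))
        calc (Pf t).map (LinearMap.id - ρ) ≤ (Pf a ⊔ (MJ (c a)).map q).map (LinearMap.id - ρ) := by
              rw [← Submodule.map_sup]
              refine Submodule.map_mono (Submodule.map_mono ?_)
              rw [show MJ (J a) ⊔ MJ (c a) = MJ (J a ∪ c a) from iSup_union.symm]
              exact biSup_mono fun i hi => hJt hi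
          _ ≤ _ := by
              rw [Submodule.map_sup]
              refine sup_le ?_ le_rfl
              rintro _ ⟨y, hy, rfl⟩
              simp [hρ₁ y hy]
      refine ⟨(Pf t).map (LinearMap.id - ρ), ?_, ?_, ?_⟩
      · rw [eq_bot_iff]
        rintro z ⟨hz₁, y, -, rfl⟩
        have h1 := hρ₁ _ hz₁
        simp only [LinearMap.sub_apply, LinearMap.id_apply, map_sub, hρ₁ _ (hρ₂ y), sub_self] at h1
        simp [← h1]
      · refine le_antisymm (sup_le (hmono hst.lt.le) ?_) fun y hy => ?_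
        · rintro _ ⟨y, hy, rfl⟩
          exact sub_mem hy (hmono hst.lt.le (hρ₂ y))
        · exact Submodule.mem_sup.2 ⟨ρ y, hρ₂ y, (LinearMap.id - ρ : P →ₗ[R] P) y, ⟨y, hy, rfl⟩, by simp⟩
      · rw [hC, ← Submodule.map_comp]
        refine isCountablyGenerated_submodule
          (s := ((LinearMap.id - ρ) ∘ₗ q) '' ⋃ i ∈ c a, gen i)
          (((hcc a).biUnion fun i _ => hgenc i).image _) ?_
        rw [Submodule.span_image, Submodule.span_iUnion₂]
        simp [MJ, hgen]
  choose C hC₁ hC₂ hC₃ using hstep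
  exact ⟨{p : WithTop ι × WithTop ι // p.1 ⋖ p.2}, fun p => C _ _ p.2,
    by convert devissage_isInternal Pf hmono hlim htop (fun p => C _ _ p.2) (fun p => hC₁ _ _ p.2) (fun p => hC₂ _ _ p.2),
    fun p => hC₃ _ _ p.2⟩

theorem exists_internal_countablyGenerated_of_retract {P : Type u} [AddCommGroup P] [Module R P]
    {ι : Type u} (N : ι → Submodule R M) (hN : DirectSum.IsInternal N)
    (hc : ∀ i, CAlg.IsCountablyGenerated R (N i))
    (incl : P →ₗ[R] M) (q : M →ₗ[R] P) (hq : ∀ x, q (incl x) = x) :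
    ∃ (κ : Type u) (L : κ → Submodule R P), DirectSum.IsInternal L ∧
      ∀ k, CAlg.IsCountablyGenerated R (L k) := by
  let : LinearOrder ι := WellOrderingRel.isWellOrder.linearOrder
  have : WellFoundedLT ι := ⟨WellOrderingRel.isWellOrder.wf⟩
  exact kaplansky_devissage N (by convert hN) hc incl q hq

end Groth.Agent.CAlgUI
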