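import Groth.Agent.CAlgUI.Countable
import Groth.Agent.CAlgUI.Kaplansky
import Mathlib.RingTheory.Flat.Basic
import Mathlib.Algebra.DirectSum.Finsupp

/-! Projective = flat + Mittag-Leffler + direct sum of countably generated. -/

namespace Groth.Agent.CAlgUI

open DirectSum
open scoped Classical

universe u

variable {R : Type u} [CommRing R] {M : Type u} [AddCommGroup M] [Module R M]

theorem ml_finsupp (A : Type u) : CAlg.IsMittagLeffler R (A →₀ R) := by
  refine ml_of_dominating fun n f => ?_
  obtain ⟨s, hs⟩ := exists_finset_supported (R := R) (K := LinearMap.range f) (by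
    rw [LinearMap.range_eq_map]; exact Module.Finite.fg_top.map f)
  refine ⟨s →₀ R, inferInstance, inferInstance, Module.finitePresentation_of_projective R _,
    restr R s ∘ₗ f, fun N _ _ => le_antisymm ?_ ?_⟩
  · rw [LinearMap.rTensor_comp]
    exact LinearMap.ker_le_ker_comp _ _
  · have h : f = extd R s ∘ₗ (restr R s ∘ₗ f) := LinearMap.ext fun x => (hs _ ⟨x, rfl⟩).symm
    conv_rhs => rw [h, LinearMap.rTensor_comp]
    exact LinearMap.ker_le_ker_comp _ _

theorem ml_of_projective [Module.Projective R M] : CAlg.IsMittagLeffler R M := by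
  obtain ⟨s, hs⟩ := Module.projective_def'.1 ‹Module.Projective R M›
  exact ml_of_ui s (ui_of_leftInverse _ hs) (ml_finsupp M)

theorem exists_countablyGenerated_of_projective [Module.Projective R M] :
    ∃ (κ : Type u) (L : κ → Submodule R M), DirectSum.IsInternal L ∧
      ∀ k, CAlg.IsCountablyGenerated R (L k) := by
  obtain ⟨s, hs⟩ := Module.projective_def'.1 ‹Module.Projective R M›
  let bM : Module.Basis M R (M →₀ R) := Finsupp.basisSingleOne
  let N : M → Submodule R (M →₀ R) := fun i => Submodule.span R {bM i}
  have hN : DirectSum.IsInternal N := by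
    rw [DirectSum.isInternal_submodule_iff_iSupIndep_and_iSup_eq_top]
    refine ⟨bM.linearIndependent.iSupIndep_span_singleton, ?_⟩
    rw [← Submodule.span_range_eq_iSup, bM.span_eq]
  exact exists_internal_countablyGenerated_of_retract N hN
    (fun i => isCountablyGenerated_submodule (Set.countable_singleton (bM i)) rfl) s
    (Finsupp.linearCombination R id) (fun x => LinearMap.congr_fun hs x)

theorem exists_retract_of_isInternal {ι : Type u} (N : ι → Submodule R M)
    (hN : DirectSum.IsInternal N) (i : ι) :
    ∃ r : M →ₗ[R] N i, r ∘ₗ (N i).subtype = LinearMap.id := by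
  let e : (⨁ j, N j) ≃ₗ[R] M := LinearEquiv.ofBijective (DirectSum.coeLinearMap N) hN
  refine ⟨DirectSum.component R ι (fun j => N j) i ∘ₗ e.symm.toLinearMap, LinearMap.ext fun y => ?_⟩
  have he : e.symm y = DirectSum.lof R ι (fun j => N j) i y := by
    rw [LinearEquiv.symm_apply_eq]
    exact (DirectSum.coeLinearMap_of N i y).symm
  simp [he, DirectSum.component.lof_self]

theorem projective_of_isInternal {ι : Type u} (N : ι → Submodule R M)
    (hN : DirectSum.IsInternal N) (h : ∀ i, Module.Projective R (N i)) : Module.Projective R M := by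
  let e : (Π₀ j, N j) ≃ₗ[R] M := LinearEquiv.ofBijective (DirectSum.coeLinearMap N) hN
  exact Module.Projective.of_equiv e

theorem projective_of_flat_ml [Module.Flat R M] (hML : CAlg.IsMittagLeffler R M)
    {ι : Type u} (N : ι → Submodule R M) (hN : DirectSum.IsInternal N)
    (hc : ∀ i, CAlg.IsCountablyGenerated R (N i)) : Module.Projective R M := by
  refine projective_of_isInternal N hN fun i => ?_
  obtain ⟨r, hr⟩ := exists_retract_of_isInternal N hN i
  haveI : Module.Flat R (N i) := Module.Flat.of_retract (N i).subtype r hr
  exact projective_of_flat_ml_countablyGenerated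
    (ml_of_ui _ (ui_of_leftInverse r hr) hML) (hc i)

end Groth.Agent.CAlgUI
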