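import Groth.Agent.CAlgUI.Local
import Groth.Agent.CAlgUI.Projective
import Mathlib

/-! Big projective modules have many unimodular elements (Bass). -/

namespace Groth.Agent.CAlgUI

universe u

variable {R : Type u} [CommRing R] {P : Type u} [AddCommGroup P] [Module R P]

/-- A projective module which is big at a maximal ideal is not spanned modulo it by finitely many elements. -/
theorem not_spanned_mod [Module.Projective R P] (m : Ideal R) [m.IsMaximal]
    (hP : ¬ Module.Finite (Localization.AtPrime m) (LocalizedModule m.primeCompl P))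
    (T₀ : Finset P) :
    ∃ x : P, x ∉ Submodule.span R (T₀ : Set P) ⊔ m • (⊤ : Submodule R P) := by
  classical
  by_contra hcon
  push Not at hcon
  apply hP
  let S := Localization.AtPrime m
  let M := LocalizedModule m.primeCompl P
  let l := LocalizedModule.mkLinearMap m.primeCompl P
  haveI : Module.Projective S M := Module.projective_of_isLocalizedModule m.primeCompl l
  obtain ⟨κ, L, hL, hLc⟩ := exists_countablyGenerated_of_projective (R := S) (M := M)
  haveI := free_of_projective_local M L hL hLc
  let b := Module.Free.chooseBasis S M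
  let T : Finset (Module.Free.ChooseBasisIndex S M) := T₀.biUnion fun i => (b.repr (l i)).support
  have hspan' : ∀ x : P, ∀ j, j ∉ T → b.repr (l x) j ∈ IsLocalRing.maximalIdeal S := by
    intro x j hj
    obtain ⟨y, hy, z, hz, rfl⟩ := Submodule.mem_sup.1 (hcon x)
    rw [map_add, map_add, Finsupp.add_apply]
    refine add_mem ?_ ?_
    · induction hy using Submodule.span_induction with
      | mem w hw =>
        have : b.repr (l w) j = 0 := by
          by_contra h
          exact hj (Finset.mem_biUnion.2 ⟨w, hw, Finsupp.mem_support_iff.2 h⟩)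
        rw [this]; exact zero_mem _
      | zero => simp
      | add p q _ _ hp hq => rw [map_add, map_add, Finsupp.add_apply]; exact add_mem hp hq
      | smul c w _ hw =>
        rw [map_smul, ← algebraMap_smul S, map_smul, Finsupp.smul_apply, smul_eq_mul]
        exact Ideal.mul_mem_left _ _ hw
    · refine Submodule.smul_induction_on hz (fun a ha w _ => ?_) (fun a c ha hc => ?_)
      · rw [map_smul, ← algebraMap_smul S, map_smul, Finsupp.smul_apply, smul_eq_mul]
        exact Ideal.mul_mem_right _ _ ((IsLocalization.AtPrime.to_map_mem_maximal_iff S m a).2 ha)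
      · rw [map_add, map_add, Finsupp.add_apply]; exact add_mem ha hc
  haveI : Finite (Module.Free.ChooseBasisIndex S M) := by
    have : ∀ j, j ∈ T := fun j => by
      by_contra hj
      obtain ⟨⟨x, t⟩, hxt⟩ := IsLocalizedModule.mk'_surjective m.primeCompl l (b j)
      have e : l x = algebraMap R S t • b j := by
        rw [← hxt, algebraMap_smul]
        exact (IsLocalizedModule.mk'_cancel' l x t).symm
      have := hspan' x j hj
      rw [e, map_smul, Finsupp.smul_apply, Module.Basis.repr_self, Finsupp.single_eq_same, smul_eq_mul,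
        mul_one] at this
      exact t.2 ((IsLocalization.AtPrime.to_map_mem_maximal_iff S m _).1 this)
    exact Finite.of_surjective (fun j : T => j.1) fun j => ⟨⟨j, this j⟩, rfl⟩
  exact Module.Finite.of_basis b

variable [IsNoetherianRing (R ⧸ (⊥ : Ideal R).jacobson)] {ι : Type u}

/-- Unimodular elements in a coset of a complement of an element. -/
theorem exists_unimodular_add (f : (ι →₀ R) →ₗ[R] P) (g : P →ₗ[R] (ι →₀ R)) (hfg : ∀ y, f (g y) = y)
    (hbig : ∀ (m : Ideal R) [m.IsMaximal] (T : Finset P),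
      ∃ x : P, x ∉ Submodule.span R (T : Set P) ⊔ m • (⊤ : Submodule R P))
    (s : P) (M : Submodule R P) (hM : Submodule.span R {s} ⊔ M = ⊤) (T₀ : Finset ι) :
    ∃ (x : P) (φ : P →ₗ[R] R), x ∈ M ∧ φ (s + x) = 1 ∧ ∀ y, (∀ i, i ∉ T₀ → g y i = 0) → φ y = 0 := by
  classical
  let J := (⊥ : Ideal R).jacobson
  let S := R ⧸ J
  let π := Ideal.Quotient.mk J
  let I : M → Ideal S := fun p => Ideal.span (Set.range fun i : {i // i ∉ T₀} => π (g (s + p.1) i.1))
  obtain ⟨_, ⟨p, rfl⟩, hmax⟩ := set_has_maximal_iff_noetherian.2 (inferInstance : IsNoetherian S S)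
    (Set.range I) ⟨_, 0, rfl⟩
  have htop : I p = ⊤ := by
    by_contra hne
    obtain ⟨Q, hQ, hIQ⟩ := Ideal.exists_le_maximal _ hne
    let m := Q.comap π
    haveI : m.IsMaximal := Ideal.comap_isMaximal_of_surjective _ Ideal.Quotient.mk_surjective
    set T₁ : Finset ι := T₀ ∪ (g (s + p.1)).support
    have hsupp : ∀ i, i ∉ T₁ → g (s + p.1) i = 0 := fun i hi => by
      simpa using fun h => hi (Finset.mem_union_right _ (Finsupp.mem_support_iff.2 h))
    let ρ : M → (T₁ → S) := fun y i => π (g y.1 i.1)
    obtain ⟨t, htρ, ht⟩ := (Submodule.fg_span_iff_fg_span_finset_subset (R := S) (Set.range ρ)).1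
      (IsNoetherian.noetherian _)
    choose w hw using fun z : t => htρ z.2
    obtain ⟨q, hlow, j, hj, hjm⟩ : ∃ q : M, (∀ i ∈ T₁, g q.1 i ∈ J) ∧ ∃ j, j ∉ T₁ ∧ g q.1 j ∉ m := by
      by_contra hcon
      push Not at hcon
      obtain ⟨x₀, hx₀⟩ := hbig m (insert s (Finset.univ.image fun z : t => (w z).1))
      set N := Submodule.span R ((insert s (Finset.univ.image fun z : t => (w z).1) : Finset P) : Set P) ⊔
        m • (⊤ : Submodule R P)
      apply hx₀
      suffices h : M ≤ N by
        have hs : Submodule.span R {s} ≤ N := (Submodule.span_singleton_le_iff_mem _ _).2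
          (Submodule.mem_sup_left (Submodule.subset_span (by simp)))
        exact (sup_le hs h) (hM.symm ▸ Submodule.mem_top)
      intro x hx
      have hρ : ρ ⟨x, hx⟩ ∈ Submodule.span S (Set.range fun z : t => ρ (w z)) := by
        rw [show (fun z : t => ρ (w z)) = Subtype.val from funext hw, Subtype.range_coe_subtype,
          Finset.setOf_mem, ← ht]
        exact Submodule.subset_span ⟨_, rfl⟩
      obtain ⟨c, hc⟩ := (Submodule.mem_span_range_iff_exists_fun S).1 hρ
      choose c' hc' using fun i => Ideal.Quotient.mk_surjective (c i)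
      let y : M := ⟨x, hx⟩ - ∑ i, c' i • w i
      have hy : ∀ i ∈ T₁, g y.1 i ∈ J := fun i hi => by
        rw [← Ideal.Quotient.eq_zero_iff_mem]
        have := congrFun hc ⟨i, hi⟩
        simp only [Finset.sum_apply, Pi.smul_apply, smul_eq_mul, ρ] at this
        simp only [y, AddSubgroupClass.coe_sub, AddSubmonoidClass.coe_finset_sum, SetLike.val_smul, map_sub, map_sum,
          map_smul, Finsupp.sub_apply, Finsupp.finset_sum_apply, Finsupp.smul_apply, smul_eq_mul, map_mul, hc']
        rw [sub_eq_zero]
        exact this.symm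
      have hall : ∀ i, g y.1 i ∈ m := fun i => by
        by_cases h : i ∈ T₁
        · show π (g y.1 i) ∈ Q
          rw [Ideal.Quotient.eq_zero_iff_mem.2 (hy i h)]
          exact zero_mem _
        · exact hcon y hy i h
      have hy' : y.1 ∈ m • (⊤ : Submodule R P) := by
        rw [← hfg y.1, ← Finsupp.sum_single (g y.1), map_finsuppSum]
        refine Submodule.sum_mem _ fun i _ => ?_
        show f (Finsupp.single i (g y.1 i)) ∈ _
        rw [← Finsupp.smul_single_one, map_smul]
        exact Submodule.smul_mem_smul (hall i) Submodule.mem_top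
      rw [show x = (∑ i, c' i • (w i).1) + y.1 by simp [y]]
      exact add_mem (Submodule.mem_sup_left (Submodule.sum_mem _ fun i _ =>
        Submodule.smul_mem _ _ (Submodule.subset_span (by simp)))) (Submodule.mem_sup_right hy')
    have hle : I p ≤ I (p + q) := Ideal.span_le.2 fun _ ⟨i, hi⟩ => by
      subst hi
      by_cases h : i.1 ∈ T₁
      · refine Ideal.subset_span ⟨i, ?_⟩
        show π (g (s + (p + q).1) i.1) = π (g (s + p.1) i.1)
        rw [Submodule.coe_add, ← add_assoc, map_add g, Finsupp.add_apply, map_add π,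
          Ideal.Quotient.eq_zero_iff_mem.2 (hlow _ h), add_zero]
      · show π (g (s + p.1) i.1) ∈ I (p + q)
        rw [hsupp _ h, map_zero]
        exact zero_mem _
    have hmem : π (g q.1 j) ∈ I (p + q) := Ideal.subset_span ⟨⟨j, fun h => hj (Finset.mem_union_left _ h)⟩, by
      show π (g (s + (p + q).1) j) = π (g q.1 j)
      rw [Submodule.coe_add, ← add_assoc, map_add g, Finsupp.add_apply, hsupp _ hj, zero_add]⟩
    refine hmax (I (p + q)) ⟨_, rfl⟩ (lt_of_le_of_ne hle fun e => hjm ?_)
    exact hIQ (e.symm ▸ hmem)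
  have h1 : π 1 ∈ (Ideal.span (Set.range fun i : {i // i ∉ T₀} => g (s + p.1) i.1)).map π := by
    rw [Ideal.map_span, ← Set.range_comp]
    show _ ∈ I p
    rw [htop]; exact Submodule.mem_top
  obtain ⟨a, ha, hae⟩ := (Ideal.mem_map_iff_of_surjective π Ideal.Quotient.mk_surjective).1 h1
  have hau : IsUnit a := by
    have := Ideal.mem_jacobson_bot.1 (Ideal.Quotient.eq.1 hae) 1
    simpa using this
  obtain ⟨v, hv⟩ := hau.exists_right_inv
  obtain ⟨c, hc⟩ := Finsupp.mem_span_range_iff_exists_finsupp.1 ha
  refine ⟨p.1, v • ∑ i ∈ c.support, c i • (Finsupp.lapply (R := R) i.1).comp g, p.2, ?_, fun y hy => ?_⟩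
  · simp only [LinearMap.smul_apply, LinearMap.sum_apply, LinearMap.comp_apply, Finsupp.lapply_apply]
    rw [show ∑ i ∈ c.support, c i • g (s + p.1) i.1 = a from hc, smul_eq_mul, mul_comm, hv]
  · simp only [LinearMap.smul_apply, LinearMap.sum_apply, LinearMap.comp_apply, Finsupp.lapply_apply]
    rw [Finset.sum_eq_zero fun i _ => by rw [hy i.1 i.2, smul_zero], smul_zero]

/-- Every element lies in a finite free direct summand. -/
theorem exists_free_summand_mem (f : (ι →₀ R) →ₗ[R] P) (g : P →ₗ[R] (ι →₀ R)) (hfg : ∀ y, f (g y) = y)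
    (hbig : ∀ (m : Ideal R) [m.IsMaximal] (T : Finset P),
      ∃ x : P, x ∉ Submodule.span R (T : Set P) ⊔ m • (⊤ : Submodule R P)) (s : P) :
    ∃ (n : ℕ) (h : (Fin n → R) →ₗ[R] P) (π : P →ₗ[R] (Fin n → R)),
      π.comp h = LinearMap.id ∧ s ∈ LinearMap.range h := by
  classical
  set T := (g s).support
  let e := T.equivFin
  let S : ℕ → Prop := fun n => ∃ (Φ : P →ₗ[R] (Fin n → R)) (σ : (Fin n → R) →ₗ[R] P),
    Φ.comp σ = LinearMap.id ∧ Φ s = 0
  have hstep : ∀ n, S n := by
    intro n
    induction n with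
    | zero => exact ⟨0, 0, Subsingleton.elim _ _, rfl⟩
    | succ n ih =>
      obtain ⟨Φ, σ, hΦσ, hΦs⟩ := ih
      obtain ⟨u, φ, -, hu, hφ⟩ := exists_unimodular_add f g hfg hbig 0 ⊤ (by simp)
        (T ∪ Finset.univ.biUnion fun i : Fin n => (g (σ (Pi.single i 1))).support)
      rw [zero_add] at hu
      have hφs : φ s = 0 := hφ s fun i hi => by
        simpa [T] using fun h : g s i ≠ 0 => hi (Finset.mem_union_left _ (Finsupp.mem_support_iff.2 h))
      have hφσ : φ.comp σ = 0 := LinearMap.pi_ext' fun i => LinearMap.ext_ring (by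
        show φ (σ (Pi.single i 1)) = 0
        refine hφ _ fun j hj => ?_
        by_contra h
        exact hj (Finset.mem_union_right _ (Finset.mem_biUnion.2 ⟨i, Finset.mem_univ i, Finsupp.mem_support_iff.2 h⟩)))
      let u' := u - σ (Φ u)
      have hφu' : φ u' = 1 := by
        simp only [u', map_sub, hu]
        rw [← LinearMap.comp_apply φ σ, hφσ, LinearMap.zero_apply, sub_zero]
      have hΦu' : Φ u' = 0 := by
        simp only [u', map_sub]
        rw [← LinearMap.comp_apply Φ σ, hΦσ, LinearMap.id_apply, sub_self]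
      let cons : (R × (Fin n → R)) ≃ₗ[R] (Fin (n + 1) → R) := Fin.consLinearEquiv R (fun _ : Fin (n + 1) => R)
      refine ⟨cons.toLinearMap.comp (φ.prod Φ),
        ((LinearMap.toSpanSingleton R P u').coprod σ).comp cons.symm.toLinearMap, LinearMap.ext fun r => ?_, ?_⟩
      · obtain ⟨⟨a, b⟩, rfl⟩ := cons.surjective r
        simp only [LinearMap.comp_apply, LinearEquiv.coe_coe, LinearEquiv.symm_apply_apply, LinearMap.id_apply]
        congr 1
        have e1 : φ (σ b) = 0 := LinearMap.congr_fun hφσ b
        have e2 : Φ (σ b) = b := LinearMap.congr_fun hΦσ b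
        simp [hφu', hΦu', e1, e2]
      · show cons (φ s, Φ s) = 0
        rw [hφs, hΦs]
        exact map_zero cons
  obtain ⟨Φ, σ, hΦσ, hΦs⟩ := hstep T.card
  let p : (Fin T.card → R) →ₗ[R] P :=
    (LinearMap.id - σ.comp Φ).comp (f.comp (∑ k, (Finsupp.lsingle (R := R) (e.symm k).1).comp (LinearMap.proj k)))
  let ψ : P →ₗ[R] (Fin T.card → R) := LinearMap.pi fun k => (Finsupp.lapply (R := R) (e.symm k).1).comp g
  have hsψ : f ((∑ k, (Finsupp.lsingle (R := R) (e.symm k).1).comp (LinearMap.proj k) :
      (Fin T.card → R) →ₗ[R] (ι →₀ R)) (ψ s)) = s := by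
    conv_rhs => rw [← hfg s]
    congr 1
    conv_rhs => rw [← Finsupp.sum_single (g s), Finsupp.sum, ← Finset.sum_coe_sort, ← e.symm.sum_comp]
    simp [ψ]
  have hΦp : ∀ r, Φ (p r) = 0 := fun r => by
    simp only [p, LinearMap.comp_apply, LinearMap.sub_apply, LinearMap.id_apply, map_sub]
    rw [← LinearMap.comp_apply Φ σ, hΦσ, LinearMap.id_apply, sub_self]
  have e2 : ∀ r, Φ (σ r) = r := fun r => LinearMap.congr_fun hΦσ r
  refine ⟨T.card, σ + p - σ.comp (ψ.comp p), Φ + ψ.comp (LinearMap.id - σ.comp Φ), LinearMap.ext fun r => ?_, ψ s, ?_⟩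
  · simp only [LinearMap.comp_apply, LinearMap.add_apply, LinearMap.sub_apply, LinearMap.id_apply, map_add, map_sub,
      e2, hΦp, map_zero]
    abel
  · simp only [LinearMap.comp_apply, LinearMap.add_apply, LinearMap.sub_apply]
    have hps : p (ψ s) = s := by
      simp only [p, LinearMap.comp_apply, LinearMap.sub_apply, LinearMap.id_apply, hsψ, hΦs, map_zero, sub_zero]
    rw [hps]
    abel

end Groth.Agent.CAlgUI
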