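import Groth.Agent.CAlgUI.Approx
import Mathlib.Algebra.Colimit.Module
import Mathlib.Order.Directed

/-! Every module is a directed colimit of finitely presented modules. -/

namespace Groth.Agent.CAlgUI

universe u v

variable {R : Type u} [CommRing R]

theorem restr_extd {Q : Type u} (s : Finset Q) (c : s →₀ R) : restr R s (extd R s c) = c :=
  Finsupp.comapDomain_mapDomain Subtype.val Subtype.val_injective c

theorem support_extd {Q : Type u} (s : Finset Q) (c : s →₀ R) : (extd R s c).support ⊆ s := by
  classical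
  intro q hq
  obtain ⟨a, -, rfl⟩ := Finset.mem_image.mp (Finsupp.mapDomain_support hq)
  exact a.2

theorem lift_injective_of_eventually_zero {ι : Type v} [Preorder ι] [DecidableEq ι]
    [IsDirected ι (· ≤ ·)] [Nonempty ι] (G : ι → Type u) [∀ i, AddCommGroup (G i)]
    [∀ i, Module R (G i)] (f : ∀ i j, i ≤ j → G i →ₗ[R] G j)
    {M : Type u} [AddCommGroup M] [Module R M] (g : ∀ i, G i →ₗ[R] M)
    (hg : ∀ i j (h : i ≤ j) x, g j (f i j h x) = g i x)
    (H : ∀ i x, g i x = 0 → ∃ j, ∃ h : i ≤ j, f i j h x = 0) :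
    Function.Injective (Module.DirectLimit.lift R ι G f g hg) := by
  rw [injective_iff_map_eq_zero]
  intro z hz
  obtain ⟨i, x, rfl⟩ := Module.DirectLimit.exists_of z
  rw [Module.DirectLimit.lift_of] at hz
  obtain ⟨j, h, hj⟩ := H i x hz
  rw [← Module.DirectLimit.of_f (hij := h), hj, map_zero]

section

variable (R) (M : Type u) [AddCommGroup M] [Module R M]

/-- a finite set of elements with a finite set of relations among them -/
def FPIdx : Type u :=
  {p : Finset M × Finset (M →₀ R) //
    ∀ c ∈ p.2, c.support ⊆ p.1 ∧ Finsupp.linearCombination R id c = 0}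

noncomputable instance : Preorder (FPIdx R M) := inferInstanceAs (Preorder (Subtype _))

instance : Nonempty (FPIdx R M) := ⟨⟨(∅, ∅), by simp⟩⟩

noncomputable instance : DecidableEq (FPIdx R M) := Classical.decEq _

instance : IsDirected (FPIdx R M) (· ≤ ·) := by
  classical
  refine ⟨fun p q => ⟨⟨(p.1.1 ∪ q.1.1, p.1.2 ∪ q.1.2), ?_⟩, ?_, ?_⟩⟩
  · intro c hc
    rcases Finset.mem_union.1 hc with h | h
    · exact ⟨(p.2 c h).1.trans Finset.subset_union_left, (p.2 c h).2⟩
    · exact ⟨(q.2 c h).1.trans Finset.subset_union_right, (q.2 c h).2⟩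
  · exact ⟨Finset.subset_union_left, Finset.subset_union_left⟩
  · exact ⟨Finset.subset_union_right, Finset.subset_union_right⟩

/-- relations -/
noncomputable def rels (p : FPIdx R M) : Submodule R (p.1.1 →₀ R) :=
  Submodule.span R (restr R p.1.1 '' (p.1.2 : Set (M →₀ R)))

/-- the fp module -/
abbrev FPObj (p : FPIdx R M) : Type u := (p.1.1 →₀ R) ⧸ rels R M p

theorem fp_FPObj (p : FPIdx R M) : Module.FinitePresentation R (FPObj R M p) := by
  classical
  refine Module.finitePresentation_of_free_of_surjective (rels R M p).mkQ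
    (Submodule.mkQ_surjective _) ?_
  rw [Submodule.ker_mkQ]
  exact Submodule.fg_span ((Finset.finite_toSet _).image _)

theorem rels_le (p q : FPIdx R M) (h : p ≤ q) :
    rels R M p ≤ (rels R M q).comap (restr R q.1.1 ∘ₗ extd R p.1.1) := by
  refine Submodule.span_le.2 ?_
  rintro _ ⟨c, hc, rfl⟩
  simp only [SetLike.mem_coe, Submodule.mem_comap, LinearMap.comp_apply]
  rw [extd_restr p.1.1 c (p.2 c hc).1]
  exact Submodule.subset_span ⟨c, h.2 hc, rfl⟩

/-- transition maps -/
noncomputable def fpMap (p q : FPIdx R M) (h : p ≤ q) : FPObj R M p →ₗ[R] FPObj R M q :=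
  (rels R M p).mapQ (rels R M q) (restr R q.1.1 ∘ₗ extd R p.1.1) (rels_le R M p q h)

instance : DirectedSystem (FPObj R M) fun i j h => fpMap R M i j h where
  map_self p x := by
    induction x using Submodule.Quotient.induction_on with
    | _ c => simp [fpMap, restr_extd]
  map_map r q p hpq hqr x := by
    induction x using Submodule.Quotient.induction_on with
    | _ c =>
      simp [fpMap, extd_restr _ _ ((support_extd p.1.1 c).trans hpq.1)]

theorem rels_le_ker (p : FPIdx R M) :
    rels R M p ≤ LinearMap.ker (Finsupp.linearCombination R id ∘ₗ extd R p.1.1) := by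
  refine Submodule.span_le.2 ?_
  rintro _ ⟨c, hc, rfl⟩
  simp only [SetLike.mem_coe, LinearMap.mem_ker, LinearMap.comp_apply]
  rw [extd_restr p.1.1 c (p.2 c hc).1]
  exact (p.2 c hc).2

/-- structure maps to `M` -/
noncomputable def fpTo (p : FPIdx R M) : FPObj R M p →ₗ[R] M :=
  (rels R M p).liftQ _ (rels_le_ker R M p)

theorem fpTo_fpMap (p q : FPIdx R M) (h : p ≤ q) (x : FPObj R M p) :
    fpTo R M q (fpMap R M p q h x) = fpTo R M p x := by
  induction x using Submodule.Quotient.induction_on with
  | _ c => simp [fpTo, fpMap, extd_restr _ _ ((support_extd p.1.1 c).trans h.1)]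

theorem fpLift_bijective :
    Function.Bijective (Module.DirectLimit.lift R (FPIdx R M) (FPObj R M) (fpMap R M) (fpTo R M)
      (fpTo_fpMap R M)) := by
  classical
  constructor
  · refine lift_injective_of_eventually_zero (FPObj R M) (fpMap R M) (fpTo R M) _ ?_
    intro p x hx
    obtain ⟨c, rfl⟩ := Submodule.Quotient.mk_surjective _ x
    have hz' : Finsupp.linearCombination R id (extd R p.1.1 c) = 0 := hx
    let q : FPIdx R M := ⟨(p.1.1, insert (extd R p.1.1 c) p.1.2), by
      intro d hd
      rcases Finset.mem_insert.1 hd with rfl | hd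
      · exact ⟨support_extd _ _, hz'⟩
      · exact p.2 d hd⟩
    refine ⟨q, ⟨subset_rfl, Finset.subset_insert _ _⟩, ?_⟩
    simp only [fpMap, Submodule.mapQ_apply, LinearMap.comp_apply, Submodule.Quotient.mk_eq_zero]
    exact Submodule.subset_span ⟨extd R p.1.1 c, Finset.mem_insert_self _ _, rfl⟩
  · intro m
    let p : FPIdx R M := ⟨({m}, ∅), by simp⟩
    let c : p.1.1 →₀ R := Finsupp.single ⟨m, Finset.mem_singleton_self m⟩ 1
    refine ⟨Module.DirectLimit.of R _ _ (fpMap R M) p (Submodule.Quotient.mk c), ?_⟩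
    rw [Module.DirectLimit.lift_of]
    simp [fpTo, extd, p, c]

end

end Groth.Agent.CAlgUI
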