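import Groth.Prelude.Def_Found
import Mathlib.Algebra.DirectSum.Module
import Mathlib.Order.SuccPred.Limit
import Mathlib.Order.WithBot

/-! Direct sum dévissages. -/

namespace Groth.Agent.CAlgUI

open DirectSum

universe u v w

variable {R : Type u} [CommRing R] {M : Type v} [AddCommGroup M] [Module R M]

theorem devissage_isInternal {S : Type w} [LinearOrder S] [WellFoundedLT S]
    [DecidableEq {p : S × S // p.1 ⋖ p.2}]
    (Mf : S → Submodule R M) (hmono : Monotone Mf)
    (hlim : ∀ s : S, Order.IsSuccPrelimit s → Mf s = ⨆ t : {t : S // t < s}, Mf t.1)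
    (htop : (⨆ s, Mf s) = ⊤)
    (C : {p : S × S // p.1 ⋖ p.2} → Submodule R M)
    (hC₁ : ∀ p, Mf p.1.1 ⊓ C p = ⊥) (hC₂ : ∀ p, Mf p.1.1 ⊔ C p = Mf p.1.2) :
    DirectSum.IsInternal C := by
  classical
  have hCle : ∀ p, C p ≤ Mf p.1.2 := fun p => by rw [← hC₂ p]; exact le_sup_right
  constructor
  · change Function.Injective (DirectSum.coeLinearMap C)
    rw [injective_iff_map_eq_zero]
    intro z hz
    by_contra hne
    have hsupp : (DFinsupp.support z).Nonempty := by
      rw [Finset.nonempty_iff_ne_empty]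
      exact fun h => hne (DFinsupp.support_eq_empty.1 h)
    obtain ⟨p, hp, hmax⟩ := Finset.exists_max_image (DFinsupp.support z) (fun q => q.1.1) hsupp
    have hsum : ∑ q ∈ DFinsupp.support z, ((z q : C q) : M) = 0 := by
      rw [← hz, DirectSum.coeLinearMap_eq_dfinsuppSum]
      rfl
    rw [← Finset.add_sum_erase _ _ hp] at hsum
    have hrest : ∑ q ∈ (DFinsupp.support z).erase p, ((z q : C q) : M) ∈ Mf p.1.1 := by
      refine Submodule.sum_mem _ fun q hq => ?_
      obtain ⟨hqp, hq'⟩ := Finset.mem_erase.1 hq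
      refine hmono ?_ (hCle q (z q).2)
      have hlt : q.1.1 < p.1.1 := by
        refine lt_of_le_of_ne (hmax q hq') fun he => hqp (Subtype.ext (Prod.ext he ?_))
        have h1 : p.1.1 ⋖ p.1.2 := p.2
        have h2 : q.1.1 ⋖ q.1.2 := q.2
        rw [he] at h2
        exact le_antisymm (not_lt.1 fun hlt => h2.2 h1.1 hlt) (not_lt.1 fun hlt => h1.2 h2.1 hlt)
      exact not_lt.1 fun h => q.2.2 hlt h
    have hzp : ((z p : C p) : M) = 0 := by
      rw [← Submodule.mem_bot (R := R), ← hC₁ p]
      refine ⟨?_, (z p).2⟩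
      rw [eq_neg_of_add_eq_zero_left hsum]
      exact (Mf p.1.1).neg_mem hrest
    exact DFinsupp.mem_support_iff.1 hp (Subtype.ext hzp)
  · change Function.Surjective (DirectSum.coeLinearMap C)
    rw [← LinearMap.range_eq_top, DirectSum.range_coeLinearMap, eq_top_iff, ← htop]
    refine iSup_le fun s => ?_
    induction s using WellFoundedLT.induction with
    | _ s ih =>
      by_cases hs : Order.IsSuccPrelimit s
      · rw [hlim s hs]
        exact iSup_le fun t => ih t.1 t.2
      · rw [Order.not_isSuccPrelimit_iff_exists_covBy] at hs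
        obtain ⟨r, hr⟩ := hs
        rw [← hC₂ ⟨(r, s), hr⟩]
        exact sup_le (ih r hr.lt) (le_iSup C ⟨(r, s), hr⟩)

/-- A complement of `A` inside `B` is isomorphic to `B ⧸ A`. -/
noncomputable def quotientEquivCompl (A B C : Submodule R M) (h₁ : A ⊓ C = ⊥) (h₂ : A ⊔ C = B) :
    (↥B ⧸ A.comap B.subtype) ≃ₗ[R] C :=
  (LinearEquiv.ofBijective
    ((A.comap B.subtype).mkQ ∘ₗ Submodule.inclusion (h₂ ▸ le_sup_right : C ≤ B)) (by
      constructor
      · rw [injective_iff_map_eq_zero]
        intro c hc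
        have : (c : M) ∈ A := by simpa using hc
        exact Subtype.ext ((Submodule.mem_bot (R := R)).1 (h₁ ▸ ⟨this, c.2⟩))
      · intro x
        obtain ⟨⟨b, hb⟩, rfl⟩ := Submodule.Quotient.mk_surjective _ x
        subst h₂
        obtain ⟨a, ha, c, hc, rfl⟩ := Submodule.mem_sup.1 hb
        refine ⟨⟨c, hc⟩, ?_⟩
        simp only [LinearMap.comp_apply, Submodule.mkQ_apply, Submodule.Quotient.eq]
        simp [ha])).symm

theorem isCountablyGenerated_of_surjective {A B : Type u} [AddCommGroup A] [Module R A]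
    [AddCommGroup B] [Module R B] (f : A →ₗ[R] B) (hf : Function.Surjective f)
    (h : CAlg.IsCountablyGenerated R A) : CAlg.IsCountablyGenerated R B := by
  obtain ⟨s, hs, hspan⟩ := h
  refine ⟨f '' s, hs.image f, ?_⟩
  rw [Submodule.span_image, hspan, Submodule.map_top, LinearMap.range_eq_top.2 hf]

theorem isCountablyGenerated_submodule {A : Type u} [AddCommGroup A] [Module R A] {N : Submodule R A}
    {s : Set A} (hs : s.Countable) (h : Submodule.span R s = N) : CAlg.IsCountablyGenerated R N := by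
  refine ⟨Subtype.val ⁻¹' s, hs.preimage Subtype.val_injective, ?_⟩
  apply Submodule.map_injective_of_injective N.subtype_injective
  rw [Submodule.map_span, Submodule.map_top, Submodule.range_subtype, Submodule.coe_subtype,
    Set.image_preimage_eq_of_subset (fun x hx => ⟨⟨x, h ▸ Submodule.subset_span hx⟩, rfl⟩), h]

theorem exists_countable_span_of_isCountablyGenerated {A : Type u} [AddCommGroup A] [Module R A]
    {N : Submodule R A} (h : CAlg.IsCountablyGenerated R N) :
    ∃ s : Set A, s.Countable ∧ Submodule.span R s = N := by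
  obtain ⟨s, hs, hspan⟩ := h
  refine ⟨N.subtype '' s, hs.image _, ?_⟩
  rw [Submodule.span_image, hspan, Submodule.map_top, Submodule.range_subtype]

/-- The dévissage attached to a direct sum decomposition indexed by a well ordered type. -/
theorem exists_devissage_of_isInternal {ι : Type w} [LinearOrder ι] [WellFoundedLT ι]
    (N : ι → Submodule R M) (hN : DirectSum.IsInternal N) :
    ∃ Mf : WithTop ι → Submodule R M, Monotone Mf ∧
      (∀ s, Order.IsSuccPrelimit s → Mf s = ⨆ t : {t // t < s}, Mf t.1) ∧ (⨆ s, Mf s) = ⊤ ∧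
      ∀ s t : WithTop ι, s ⋖ t → ∃ i : ι, Mf s ⊓ N i = ⊥ ∧ Mf s ⊔ N i = Mf t := by
  classical
  let Mf : WithTop ι → Submodule R M := fun s => ⨆ i ∈ {i : ι | (i : WithTop ι) < s}, N i
  have hmono : Monotone Mf := fun s t h => biSup_mono fun i hi => lt_of_lt_of_le hi h
  refine ⟨Mf, hmono, ?_, ?_, ?_⟩
  · intro s hs
    refine le_antisymm (iSup₂_le fun i hi => ?_) (iSup_le fun t => hmono t.2.le)
    obtain ⟨t, hit, hts⟩ : ∃ t, (i : WithTop ι) < t ∧ t < s := by
      by_contra hcon
      exact hs _ ⟨hi, fun c h1 h2 => hcon ⟨c, h1, h2⟩⟩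
    exact (le_iSup₂ (f := fun (j : ι) (_ : (j : WithTop ι) < t) => N j) i hit).trans
      (le_iSup (fun t : {t // t < s} => Mf t.1) ⟨t, hts⟩)
  · rw [eq_top_iff, ← hN.submodule_iSup_eq_top]
    exact iSup_le fun i => (le_iSup₂ (f := fun (j : ι) (_ : (j : WithTop ι) < ⊤) => N j) i
      (WithTop.coe_lt_top i)).trans (le_iSup Mf ⊤)
  · intro s t hst
    cases s with
    | top => exact absurd hst.lt not_top_lt
    | coe i =>
      refine ⟨i, ?_, le_antisymm (sup_le (hmono hst.lt.le) ?_) (iSup₂_le fun j hj => ?_)⟩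
      · refine disjoint_iff.1 ((hN.submodule_iSupIndep i).symm.mono_left (iSup₂_le fun j hj => ?_))
        exact le_iSup₂ (f := fun j (_ : j ≠ i) => N j) j (WithTop.coe_lt_coe.1 hj).ne
      · exact le_iSup₂ (f := fun (j : ι) (_ : (j : WithTop ι) < t) => N j) i hst.lt
      · rcases lt_or_eq_of_le (not_lt.1 fun h => hst.2 h hj) with h | h
        · exact le_sup_of_le_left (le_iSup₂ (f := fun (k : ι) (_ : (k : WithTop ι) < i) => N k) j h)
        · obtain rfl : j = i := WithTop.coe_eq_coe.1 h
          exact le_sup_right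

end Groth.Agent.CAlgUI
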