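import Groth.Agent.CAlgUI.ML
import Mathlib.LinearAlgebra.TensorProduct.DirectLimit

/-!
Mittag-Leffler modules and direct limits; products of universally injective maps.
-/

namespace Groth.Agent.CAlgUI

open TensorProduct

universe u

variable {R : Type u} [CommRing R]

theorem ui_pi {ι : Type u} {Q Q' : ι → Type u} [∀ i, AddCommGroup (Q i)] [∀ i, Module R (Q i)]
    [∀ i, AddCommGroup (Q' i)] [∀ i, Module R (Q' i)] (φ : ∀ i, Q i →ₗ[R] Q' i)
    (h : ∀ i, CAlgX.UniversallyInjective R (φ i)) :
    CAlgX.UniversallyInjective R (LinearMap.pi fun i => φ i ∘ₗ LinearMap.proj i : (∀ i, Q i) →ₗ[R] ∀ i, Q' i) := by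
  rw [ui_iff_equational]
  intro n m x y a hxy
  choose z hz using fun i => (ui_iff_equational (φ i)).mp (h i) n m (fun k => x k i) (fun j => y j i) a
    (fun k => by simpa using congrFun (hxy k) i)
  exact ⟨fun j i => z i j, fun k => funext fun i => by simpa using hz i k⟩

theorem fp_tensor {M N : Type u} [AddCommGroup M] [Module R M] [Module.FinitePresentation R M]
    [AddCommGroup N] [Module R N] [Module.FinitePresentation R N] :
    Module.FinitePresentation R (M ⊗[R] N) := by
  obtain ⟨n, m, p, b, hp, hex⟩ := Module.FinitePresentation.exists_fin' R M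
  have : Module.FinitePresentation R ((Fin n → R) ⊗[R] N) := Module.FinitePresentation.of_equiv
    ((TensorProduct.comm R (Fin n → R) N).trans (TensorProduct.piScalarRight R R N (Fin n))).symm
  refine Module.finitePresentation_of_surjective (p.rTensor N) (LinearMap.rTensor_surjective N hp) ?_
  rw [LinearMap.exact_iff.mp (rTensor_exact N hex hp)]
  exact Submodule.fg_range _

variable {ι : Type u} [Preorder ι] [IsDirected ι (· ≤ ·)] [DecidableEq ι] {G : ι → Type u}
  [∀ i, AddCommGroup (G i)] [∀ i, Module R (G i)] {f : ∀ i j, i ≤ j → G i →ₗ[R] G j}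
  [DirectedSystem G fun i j h => f i j h]

theorem exists_of_tensor [Nonempty ι] {X : Type u} [AddCommGroup X] [Module R X]
    (t : Module.DirectLimit G f ⊗[R] X) :
    ∃ i, ∃ u : G i ⊗[R] X, (Module.DirectLimit.of R ι G f i).rTensor X u = t := by
  obtain ⟨i, u, hu⟩ := Module.DirectLimit.exists_of (TensorProduct.directLimitLeft f X t)
  refine ⟨i, u, (TensorProduct.directLimitLeft f X).injective ?_⟩
  rw [TensorProduct.directLimitLeft_rTensor_of]
  exact hu

theorem exists_zero_tensor {X : Type u} [AddCommGroup X] [Module R X] {i : ι} (u : G i ⊗[R] X)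
    (h : (Module.DirectLimit.of R ι G f i).rTensor X u = 0) :
    ∃ (j : ι) (hij : i ≤ j), (f i j hij).rTensor X u = 0 := by
  have : Nonempty ι := ⟨i⟩
  refine Module.DirectLimit.of.zero_exact (G := fun i => G i ⊗[R] X)
    (f := fun i j h => (f i j h).rTensor X) ?_
  rw [← TensorProduct.directLimitLeft_rTensor_of, h, map_zero]

theorem ui_of (hf : ∀ i j (h : i ≤ j), CAlgX.UniversallyInjective R (f i j h)) (i : ι) :
    CAlgX.UniversallyInjective R (Module.DirectLimit.of R ι G f i) := fun Q _ _ => by
  rw [injective_iff_map_eq_zero]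
  intro u hu
  obtain ⟨j, hij, h⟩ := exists_zero_tensor u hu
  exact (injective_iff_map_eq_zero _).mp (hf i j hij Q) u h

theorem ml_directLimit_of_ui (hf : ∀ i j (h : i ≤ j), CAlgX.UniversallyInjective R (f i j h))
    (hG : ∀ i, CAlg.IsMittagLeffler R (G i)) : CAlg.IsMittagLeffler R (Module.DirectLimit G f) := by
  rw [ml_iff]
  intro κ Q _ _ t ht
  rcases isEmpty_or_nonempty ι with hι | hι
  · induction t using TensorProduct.induction_on with
    | zero => rfl
    | tmul m q => rw [Subsingleton.elim m 0, TensorProduct.zero_tmul]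
    | add a b ha hb =>
      have hs : ∀ s : Module.DirectLimit G f ⊗[R] (∀ k, Q k), s = 0 := fun s => by
        induction s using TensorProduct.induction_on with
        | zero => rfl
        | tmul m q => rw [Subsingleton.elim m 0, TensorProduct.zero_tmul]
        | add a b ha hb => rw [ha, hb, add_zero]
      exact hs _
  obtain ⟨i, u, rfl⟩ := exists_of_tensor t
  rw [ml_iff.mp (hG i) κ Q u fun k => (injective_iff_map_eq_zero _).mp (ui_of hf i (Q k)) _ (by
    rw [← piRightHom_rTensor, ht]), map_zero]

theorem ml_directLimit_iff [Nonempty ι] [∀ i, Module.FinitePresentation R (G i)] :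
    CAlg.IsMittagLeffler R (Module.DirectLimit G f) ↔
      ∀ i, ∃ (j : ι) (hij : i ≤ j), ∀ (k : ι) (hik : i ≤ k),
        ∃ h : G k →ₗ[R] G j, f i j hij = h ∘ₗ f i k hik := by
  constructor
  · intro hM i
    obtain ⟨κ, Q, _, _, x, hx, huniv⟩ := exists_universal hM (Module.DirectLimit.of R ι G f i)
    obtain ⟨j, hij, hj⟩ := exists_zero_tensor x hx
    refine ⟨j, hij, fun k hik => ?_⟩
    have : Module.FinitePresentation R (G k ⧸ LinearMap.range (f i k hik)) :=
      Module.finitePresentation_of_surjective _ (Submodule.mkQ_surjective _)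
        (by simpa using Submodule.fg_range _)
    refine exists_factor_of_dom _ _ fun N _ _ u hu => huniv _ _ hj N ?_
    have hcomp : Module.DirectLimit.of R ι G f k ∘ₗ f i k hik = Module.DirectLimit.of R ι G f i :=
      LinearMap.ext fun z => Module.DirectLimit.of_f
    rw [LinearMap.mem_ker] at hu ⊢
    rw [← hcomp, LinearMap.rTensor_comp, LinearMap.comp_apply, hu, map_zero]
  · intro H
    rw [ml_iff]
    intro κ Q _ _ t ht
    obtain ⟨i, u, rfl⟩ := exists_of_tensor t
    obtain ⟨j, hij, hj⟩ := H i
    have h0 : (f i j hij).rTensor _ u = 0 := ml_iff.mp ml_of_fp κ Q _ fun a => by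
      rw [piRightHom_rTensor]
      have : (Module.DirectLimit.of R ι G f i).rTensor (Q a) (TensorProduct.piRightHom R R _ Q u a) = 0 := by
        rw [← piRightHom_rTensor, ht]
      obtain ⟨k, hik, hk⟩ := exists_zero_tensor _ this
      obtain ⟨h, hh⟩ := hj k hik
      rw [hh, LinearMap.rTensor_comp, LinearMap.comp_apply, hk, map_zero]
    have hcomp : Module.DirectLimit.of R ι G f j ∘ₗ f i j hij = Module.DirectLimit.of R ι G f i :=
      LinearMap.ext fun z => Module.DirectLimit.of_f
    rw [← hcomp, LinearMap.rTensor_comp, LinearMap.comp_apply, h0, map_zero]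

end Groth.Agent.CAlgUI
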