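import Groth.Agent.CAlgUI.Colim
import Groth.Agent.CAlgUI.Limit
import Groth.Agent.CAlgUI.Devissage
import Mathlib.RingTheory.Flat.EquationalCriterion
import Mathlib.Algebra.Module.Projective
import Mathlib.Order.Monotone.Basic

/-! Countably generated Mittag-Leffler modules. -/

namespace Groth.Agent.CAlgUI

universe u

variable {R : Type u} [CommRing R] {M : Type u} [AddCommGroup M] [Module R M]

/-- Sum of finitely nonzero components: a retraction from a free module. -/
theorem projective_of_components (a : ℕ → ℕ) (b : ∀ n, M →ₗ[R] (Fin (a n) → R))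
    (c : ∀ n, (Fin (a n) → R) →ₗ[R] M)
    (h : ∀ x, ∃ N, (∀ n, N ≤ n → b n x = 0) ∧ ∑ n ∈ Finset.range N, c n (b n x) = x) :
    Module.Projective R M := by
  classical
  let B : M →ₗ[R] ((Σ n, Fin (a n)) → R) := LinearMap.pi fun k => LinearMap.proj k.2 ∘ₗ b k.1
  have hfin : ∀ x, (Function.support (B x)).Finite := fun x => by
    obtain ⟨N, hN, -⟩ := h x
    refine ((Finset.range N).sigma fun n => (Finset.univ : Finset (Fin (a n)))).finite_toSet.subset ?_
    rintro ⟨n, k⟩ hk
    simp only [Finset.coe_sigma, Set.mem_sigma_iff, Finset.mem_coe, Finset.mem_range,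
      Finset.mem_univ, and_true]
    by_contra hn
    exact hk (by simp [B, hN n (not_lt.1 hn)])
  let σ : M →ₗ[R] ((Σ n, Fin (a n)) →₀ R) :=
    { toFun := fun x => Finsupp.ofSupportFinite (B x) (hfin x)
      map_add' := fun x y => by ext k; simp [Finsupp.ofSupportFinite_coe]
      map_smul' := fun r x => by ext k; simp [Finsupp.ofSupportFinite_coe] }
  let π : ((Σ n, Fin (a n)) →₀ R) →ₗ[R] M :=
    Finsupp.linearCombination R fun k => c k.1 (Pi.single k.2 1)
  refine Module.Projective.of_split σ π (LinearMap.ext fun x => ?_)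
  obtain ⟨N, hN, hsum⟩ := h x
  have hsupp : (σ x).support ⊆ (Finset.range N).sigma fun n => (Finset.univ : Finset (Fin (a n))) := by
    rintro ⟨n, k⟩ hk
    simp only [Finset.mem_sigma, Finset.mem_range, Finset.mem_univ, and_true]
    by_contra hn
    exact Finsupp.mem_support_iff.1 hk (by simp [σ, B, Finsupp.ofSupportFinite_coe, hN n (not_lt.1 hn)])
  simp only [LinearMap.comp_apply, LinearMap.id_apply, π, Finsupp.linearCombination_apply]
  rw [Finsupp.sum_of_support_subset _ hsupp (fun k r => r • c k.1 (Pi.single k.2 1)) (by simp),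
    Finset.sum_sigma]
  conv_rhs => rw [← hsum]
  refine Finset.sum_congr rfl fun n _ => ?_
  conv_rhs => rw [pi_eq_sum_univ' (b n x), map_sum]
  simp [σ, B, Finsupp.ofSupportFinite_coe]

theorem exists_fp_endo_fixing_aux {ι : Type u} [Preorder ι] [IsDirected ι (· ≤ ·)] [Nonempty ι]
    [DecidableEq ι] (G : ι → Type u) [∀ i, AddCommGroup (G i)] [∀ i, Module R (G i)]
    [∀ i, Module.FinitePresentation R (G i)] (fT : ∀ i j, i ≤ j → G i →ₗ[R] G j)
    [DirectedSystem G fun i j h => fT i j h] (tM : ∀ i, G i →ₗ[R] M)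
    (hto : ∀ i j (h : i ≤ j) x, tM j (fT i j h x) = tM i x)
    (hlift : Function.Bijective (Module.DirectLimit.lift R ι G fT tM hto))
    (hML : CAlg.IsMittagLeffler R M)
    (hc : CAlg.IsCountablyGenerated R M) (F : Finset M) :
    ∃ (Q : Type u) (_ : AddCommGroup Q) (_ : Module R Q) (_ : Module.FinitePresentation R Q)
      (b : M →ₗ[R] Q) (c : Q →ₗ[R] M), ∀ x ∈ F, c (b x) = x := by
  classical
  obtain ⟨s, hs, hspan⟩ := hc
  obtain ⟨gen, hgen⟩ := (hs.insert 0).exists_eq_range (Set.insert_nonempty _ _)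
  let E : Module.DirectLimit G fT ≃ₗ[R] M := LinearEquiv.ofBijective _ hlift
  have hML' : CAlg.IsMittagLeffler R (Module.DirectLimit G fT) :=
    ml_of_ui E.toLinearMap (ui_of_leftInverse E.symm.toLinearMap (E.symm_comp)) hML
  choose j hij hfac using ml_directLimit_iff.1 hML'
  -- elements of `M` seen at some index
  have hsurj : ∀ m : M, ∃ i, ∀ k, i ≤ k → m ∈ LinearMap.range (tM k) := by
    intro m
    obtain ⟨z, hz⟩ := (hlift).2 m
    obtain ⟨i, x, rfl⟩ := Module.DirectLimit.exists_of z
    rw [Module.DirectLimit.lift_of] at hz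
    exact ⟨i, fun k hik => ⟨fT i k hik x, by rw [hto]; exact hz⟩⟩
  choose idx hidx using hsurj
  obtain ⟨i₀, hi₀⟩ := (F.image idx).exists_le
  choose ub hub₁ hub₂ using fun a b : ι => exists_ge_ge a b
  let I : ℕ → ι := fun n => Nat.rec i₀ (fun k prev => ub (j prev) (idx (gen k))) n
  have hIj : ∀ n, j (I n) ≤ I (n + 1) := fun n => hub₁ _ _
  have hIstep : ∀ n, I n ≤ I (n + 1) := fun n => (hij _).trans (hIj n)
  have hImono : Monotone I := monotone_nat_of_le_succ hIstep
  -- factorisation of each step through the next one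
  have hstep : ∀ n, ∃ h : G (I (n + 2)) →ₗ[R] G (I (n + 1)),
      fT (I n) (I (n + 1)) (hIstep n) =
        h ∘ₗ fT (I n) (I (n + 2)) ((hIstep n).trans (hIstep (n + 1))) := by
    intro n
    obtain ⟨h, hh⟩ := hfac (I n) (I (n + 2)) ((hIstep n).trans (hIstep (n + 1)))
    refine ⟨fT (j (I n)) (I (n + 1)) (hIj n) ∘ₗ h, ?_⟩
    rw [LinearMap.comp_assoc, ← hh]
    exact LinearMap.ext fun x =>
      (DirectedSystem.map_map (f := fun i j h => fT i j h) (hij (I n)) (hIj n) x).symm
  choose h hh using hstep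
  let φ : ∀ n, G (I (n + 1)) →ₗ[R] G (I 1) :=
    fun n => Nat.rec (motive := fun n => G (I (n + 1)) →ₗ[R] G (I 1)) LinearMap.id
      (fun k φk => φk ∘ₗ h k) n
  let θ : ∀ n, G (I n) →ₗ[R] G (I 1) := fun n => φ n ∘ₗ fT (I n) (I (n + 1)) (hIstep n)
  have hθ : ∀ n x, θ (n + 1) (fT (I n) (I (n + 1)) (hIstep n) x) = θ n x := by
    intro n x
    simp only [θ, LinearMap.comp_apply]
    change φ n (h n (fT (I (n + 1)) (I (n + 2)) (hIstep (n + 1))
      (fT (I n) (I (n + 1)) (hIstep n) x))) = _
    rw [DirectedSystem.map_map (f := fun i j h => fT i j h) (hIstep n) (hIstep (n + 1)) x,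
      hh n]
    rfl
  let fN : ∀ m n : ℕ, m ≤ n → G (I m) →ₗ[R] G (I n) := fun m n hmn => fT (I m) (I n) (hImono hmn)
  haveI : DirectedSystem (fun n => G (I n)) fun m n hmn => fN m n hmn :=
    { map_self := fun n x => DirectedSystem.map_self (f := fun i j h => fT i j h) x
      map_map := fun _ _ _ h₁ h₂ x =>
        DirectedSystem.map_map (f := fun i j h => fT i j h) (hImono h₁) (hImono h₂) x }
  have hθle : ∀ m n (hmn : m ≤ n) x, θ n (fN m n hmn x) = θ m x := by
    intro m n hmn
    induction n, hmn using Nat.le_induction with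
    | base => intro x; exact congrArg (θ m) (DirectedSystem.map_self (f := fun i j h => fT i j h) x)
    | succ n hmn ih =>
      intro x
      rw [← ih x, ← hθ n]
      exact congrArg (θ (n + 1))
        (DirectedSystem.map_map (f := fun i j h => fT i j h) (hImono hmn) (hIstep n) x).symm
  have hcompat : ∀ m n (hmn : m ≤ n) x, tM (I n) (fN m n hmn x) = tM (I m) x :=
    fun m n hmn x => hto _ _ _ x
  let Λ := Module.DirectLimit.lift R ℕ (fun n => G (I n)) fN (fun n => tM (I n)) hcompat
  have hbij : Function.Bijective Λ := by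
    constructor
    · refine lift_injective_of_eventually_zero (fun n => G (I n)) fN _ _ fun n x hx => ?_
      refine ⟨n + 1, n.le_succ, ?_⟩
      obtain ⟨k, hnk, hk⟩ : ∃ (k : ι) (hnk : I n ≤ k), fT (I n) k hnk x = 0 := by
        refine Module.DirectLimit.of.zero_exact (f := fT) ((hlift).1 ?_)
        rw [Module.DirectLimit.lift_of, hx, map_zero]
      obtain ⟨g, hg⟩ := hfac (I n) k hnk
      change fT (I n) (I (n + 1)) _ x = 0
      rw [← DirectedSystem.map_map (f := fun i j h => fT i j h) (hij (I n)) (hIj n) x]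
      change fT (j (I n)) (I (n + 1)) (hIj n) (fT (I n) (j (I n)) (hij (I n)) x) = 0
      rw [hg, LinearMap.comp_apply, hk, map_zero, map_zero]
    · rw [← LinearMap.range_eq_top, eq_top_iff, ← hspan, Submodule.span_le]
      intro m hm
      obtain ⟨k, rfl⟩ : m ∈ Set.range gen := hgen ▸ Set.mem_insert_of_mem 0 hm
      obtain ⟨x, hx⟩ := hidx (gen k) (I (k + 1)) (hub₂ _ _)
      exact ⟨Module.DirectLimit.of R ℕ (fun n => G (I n)) fN (k + 1) x,
        (Module.DirectLimit.lift_of ..).trans hx⟩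
  refine ⟨G (I 1), inferInstance, inferInstance, inferInstance,
    Module.DirectLimit.lift R ℕ (fun n => G (I n)) fN θ hθle ∘ₗ (LinearEquiv.ofBijective Λ hbij).symm.toLinearMap,
    tM (I 1), fun x hx => ?_⟩
  obtain ⟨y, rfl⟩ := hidx x (I 0) (hi₀ _ (Finset.mem_image_of_mem idx hx))
  have hy : (LinearEquiv.ofBijective Λ hbij).symm (tM (I 0) y) =
      Module.DirectLimit.of R ℕ (fun n => G (I n)) fN 0 y := by
    rw [LinearEquiv.symm_apply_eq, LinearEquiv.ofBijective_apply]
    exact (Module.DirectLimit.lift_of (i := 0) (fun n => tM (I n)) hcompat y).symm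
  rw [LinearMap.comp_apply, LinearEquiv.coe_toLinearMap, hy, Module.DirectLimit.lift_of]
  simp only [θ, φ, LinearMap.comp_apply, Nat.rec_zero, LinearMap.id_apply]
  exact hto _ _ _ y

theorem exists_fp_endo_fixing (hML : CAlg.IsMittagLeffler R M)
    (hc : CAlg.IsCountablyGenerated R M) (F : Finset M) :
    ∃ (Q : Type u) (_ : AddCommGroup Q) (_ : Module R Q) (_ : Module.FinitePresentation R Q)
      (b : M →ₗ[R] Q) (c : Q →ₗ[R] M), ∀ x ∈ F, c (b x) = x :=
  haveI := fp_FPObj R M
  exists_fp_endo_fixing_aux (FPObj R M) (fpMap R M) (fpTo R M) (fpTo_fpMap R M)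
    (fpLift_bijective R M) hML hc F

theorem exists_free_endo_fixing [Module.Flat R M] (hML : CAlg.IsMittagLeffler R M)
    (hc : CAlg.IsCountablyGenerated R M) (F : Finset M) :
    ∃ (n : ℕ) (b : M →ₗ[R] (Fin n → R)) (c : (Fin n → R) →ₗ[R] M), ∀ x ∈ F, c (b x) = x := by
  obtain ⟨Q, _, _, _, b, c, hbc⟩ := exists_fp_endo_fixing hML hc F
  obtain ⟨n, k, c', hk⟩ := Module.Flat.exists_factorization_of_finitePresentation c
  refine ⟨n, (Finsupp.linearEquivFunOnFinite R R (Fin n)).toLinearMap ∘ₗ k ∘ₗ b,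
    c' ∘ₗ (Finsupp.linearEquivFunOnFinite R R (Fin n)).symm.toLinearMap, fun x hx => ?_⟩
  have := LinearMap.congr_fun hk (b x)
  rw [LinearMap.comp_apply] at this
  simp only [LinearMap.comp_apply, LinearEquiv.coe_toLinearMap, LinearEquiv.symm_apply_apply]
  rw [← this]
  exact hbc x hx

theorem projective_of_flat_ml_countablyGenerated [Module.Flat R M] (hML : CAlg.IsMittagLeffler R M)
    (hc : CAlg.IsCountablyGenerated R M) : Module.Projective R M := by
  classical
  have hc' := hc
  obtain ⟨s, hs, hspan⟩ := hc'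
  obtain ⟨gen, hgen⟩ := (hs.insert 0).exists_eq_range (Set.insert_nonempty _ _)
  choose N b c hbc using exists_free_endo_fixing hML hc
  let F : ℕ → Finset M := fun n => Nat.rec {gen 0} (fun k prev =>
    (Finset.range (k + 2)).image gen ∪
      Finset.univ.image fun i : Fin (N prev) => c prev (Pi.single i 1)) n
  have hFgen : ∀ n k, k ≤ n → gen k ∈ F n := by
    intro n k hk
    cases n with
    | zero => simp [F, Nat.le_zero.1 hk]
    | succ n =>
      exact Finset.mem_union_left _ (Finset.mem_image.2 ⟨k, Finset.mem_range.2 (by omega), rfl⟩)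
  let e : ℕ → (M →ₗ[R] M) := fun n => c (F n) ∘ₗ b (F n)
  have hee : ∀ n x, e (n + 1) (e n x) = e n x := by
    intro n x
    refine (LinearMap.congr_fun (?_ : e (n + 1) ∘ₗ c (F n) = c (F n)) (b (F n) x))
    ext i
    exact hbc (F (n + 1)) _ (Finset.mem_union_right _ (Finset.mem_image.2 ⟨i, Finset.mem_univ _, rfl⟩))
  let D : ∀ n, M →ₗ[R] (Fin (N (F n)) → R) :=
    fun n => b (F n) ∘ₗ (match n with | 0 => LinearMap.id | k + 1 => LinearMap.id - e k)
  refine projective_of_components (fun n => N (F n)) D (fun n => c (F n)) fun x => ?_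
  have hev : ∃ K, ∀ n, K ≤ n → e n x = x := by
    have hx : x ∈ Submodule.span R s := hspan ▸ Submodule.mem_top
    induction hx using Submodule.span_induction with
    | mem m hm =>
      obtain ⟨k, rfl⟩ : m ∈ Set.range gen := hgen ▸ Set.mem_insert_of_mem 0 hm
      exact ⟨k, fun n hn => hbc _ _ (hFgen n k hn)⟩
    | zero => exact ⟨0, fun n _ => map_zero _⟩
    | add p q _ _ hp hq =>
      obtain ⟨Kp, hp⟩ := hp
      obtain ⟨Kq, hq⟩ := hq
      exact ⟨max Kp Kq, fun n hn => by
        rw [map_add, hp n (le_of_max_le_left hn), hq n (le_of_max_le_right hn)]⟩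
    | smul r p _ hp =>
      obtain ⟨Kp, hp⟩ := hp
      exact ⟨Kp, fun n hn => by rw [map_smul, hp n hn]⟩
  obtain ⟨K, hK⟩ := hev
  have htel : ∀ n, ∑ k ∈ Finset.range (n + 1), c (F k) (D k x) = e n x := by
    intro n
    induction n with
    | zero => simp [D, e]
    | succ n ih =>
      rw [Finset.sum_range_succ, ih]
      simp only [D, LinearMap.comp_apply, LinearMap.sub_apply, LinearMap.id_apply, map_sub]
      change e n x + (e (n + 1) x - e (n + 1) (e n x)) = e (n + 1) x
      rw [hee, add_sub_cancel]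
  refine ⟨K + 1, fun n hn => ?_, by rw [htel, hK K le_rfl]⟩
  obtain ⟨k, rfl⟩ : ∃ k, n = k + 1 := ⟨n - 1, by omega⟩
  simp [D, hK k (by omega)]

end Groth.Agent.CAlgUI
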