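import Groth.Agent.CAlgUI.Projective
import Groth.Agent.CAlgUI.BaseChange
import Mathlib.RingTheory.Flat.FaithfullyFlat.Basic
import Mathlib.RingTheory.TensorProduct.Finite

/-! Faithfully flat descent of countable generation and of projectivity. -/

namespace Groth.Agent.CAlgUI

open TensorProduct
open scoped Classical

universe u

variable {R S : Type u} [CommRing R] [CommRing S] [Algebra R S]
  {M : Type u} [AddCommGroup M] [Module R M]

theorem exists_finset_baseChange (t : S ⊗[R] M) :
    ∃ U : Finset M, t ∈ (Submodule.span R (U : Set M)).baseChange S := by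
  induction t using TensorProduct.induction_on with
  | zero => exact ⟨∅, zero_mem _⟩
  | tmul s m =>
    exact ⟨{m}, Submodule.tmul_mem_baseChange_of_mem s (Submodule.subset_span (by simp))⟩
  | add a b ha hb =>
    obtain ⟨U, hU⟩ := ha
    obtain ⟨V, hV⟩ := hb
    exact ⟨U ∪ V, add_mem
      (Submodule.baseChange_mono S (Submodule.span_mono (by simp)) hU)
      (Submodule.baseChange_mono S (Submodule.span_mono (by simp)) hV)⟩

theorem countablyGenerated_of_baseChange [Module.FaithfullyFlat R S]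
    (h : CAlg.IsCountablyGenerated S (S ⊗[R] M)) : CAlg.IsCountablyGenerated R M := by
  obtain ⟨s, hs, hspan⟩ := h
  choose U hU using exists_finset_baseChange (R := R) (S := S) (M := M)
  refine ⟨⋃ t ∈ s, (U t : Set M), hs.biUnion fun t _ => (U t).countable_toSet, ?_⟩
  refine Submodule.baseChange_injective (A := S) ?_
  rw [Submodule.baseChange_top, eq_top_iff, ← hspan, Submodule.span_le]
  intro t ht
  exact Submodule.baseChange_mono S
    (Submodule.span_mono (Set.subset_biUnion_of_mem (u := fun t => (U t : Set M)) ht)) (hU t)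

section

variable {I : Type u} (Q : I → Submodule S (S ⊗[R] M))

/-- the submodule spanned by the `M`-part of a set of `M ⊕ I` -/
def mPart (R : Type u) [CommRing R] [Module R M] (A : Set (M ⊕ I)) : Submodule R M :=
  Submodule.span R (Sum.inl ⁻¹' A)

/-- the sum of the components in the `I`-part of a set of `M ⊕ I` -/
def iPart (A : Set (M ⊕ I)) : Submodule S (S ⊗[R] M) := ⨆ i ∈ Sum.inr ⁻¹' A, Q i

theorem exists_adapted (hQ : DirectSum.IsInternal Q)
    (hQc : ∀ i, ∃ t : Set (S ⊗[R] M), t.Countable ∧ Submodule.span S t = Q i) :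
    ∃ D : M ⊕ I → Set (M ⊕ I), (∀ x, (D x).Countable) ∧
      ∀ A : Set (M ⊕ I), (∀ x ∈ A, D x ⊆ A) → (mPart R A).baseChange S = iPart Q A := by
  choose gen hgenc hgen using hQc
  choose U hU using exists_finset_baseChange (R := R) (S := S) (M := M)
  have hmem : ∀ t : S ⊗[R] M, ∃ T : Finset I, t ∈ ⨆ i ∈ T, Q i := fun t =>
    Submodule.mem_iSup_iff_exists_finset.1 (by rw [hQ.submodule_iSup_eq_top]; trivial)
  choose T hT using hmem
  refine ⟨Sum.elim (fun m => Sum.inr '' (T ((1 : S) ⊗ₜ[R] m) : Set I))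
    (fun i => Sum.inl '' ⋃ g ∈ gen i, (U g : Set M)), ?_, fun A hA => le_antisymm ?_ ?_⟩
  · rintro (m | i)
    · exact (Finset.countable_toSet _).image _
    · exact ((hgenc i).biUnion fun g _ => (U g).countable_toSet).image _
  · rw [mPart, Submodule.baseChange_span, Submodule.span_le]
    rintro _ ⟨m, hm, rfl⟩
    exact (biSup_mono fun i hi => hA _ hm ⟨i, hi, rfl⟩ : (⨆ i ∈ T ((1 : S) ⊗ₜ[R] m), Q i) ≤ iPart Q A)
      (hT _)
  · refine iSup₂_le fun i hi => ?_
    rw [← hgen i, Submodule.span_le]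
    intro g hg
    refine Submodule.baseChange_mono S (Submodule.span_mono ?_) (hU g)
    intro m hm
    exact hA _ hi ⟨m, Set.mem_biUnion hg hm, rfl⟩

theorem exists_adapted_above (hQ : DirectSum.IsInternal Q)
    (hQc : ∀ i, ∃ t : Set (S ⊗[R] M), t.Countable ∧ Submodule.span S t = Q i)
    (s : Set M) (hs : s.Countable) :
    ∃ (N' : Submodule R M) (I' : Set I), Submodule.span R s ≤ N' ∧
      (∃ s' : Set M, s'.Countable ∧ Submodule.span R s' = N') ∧
      Submodule.span S ((TensorProduct.mk R S M 1) '' (N' : Set M)) = ⨆ i ∈ I', Q i := by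
  obtain ⟨D, hDc, hD⟩ := exists_adapted Q hQ hQc
  obtain ⟨A, hA₀, hAc, hA⟩ := exists_countable_closed_set (Sum.inl '' s : Set (M ⊕ I)) (hs.image _) D hDc
  refine ⟨mPart R A, Sum.inr ⁻¹' A, Submodule.span_mono fun m hm => hA₀ ⟨m, hm, rfl⟩,
    ⟨_, hAc.preimage Sum.inl_injective, rfl⟩, ?_⟩
  rw [← Submodule.baseChange_span, Submodule.span_eq]
  exact hD A hA

variable [Module.FaithfullyFlat R S]

theorem projective_step (hQ : DirectSum.IsInternal Q) [Module.Projective S (S ⊗[R] M)]
    (A B : Set (M ⊕ I)) (hAB : A ⊆ B)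
    (hA : (mPart R A).baseChange S = iPart Q A) (hB : (mPart R B).baseChange S = iPart Q B) :
    Module.Projective S (S ⊗[R] (↥(mPart R B) ⧸ (mPart R A).comap (mPart R B).subtype)) := by
  let L := mPart R B
  let L₀ := (mPart R A).comap L.subtype
  have hle : mPart R A ≤ L := Submodule.span_mono (Set.preimage_mono hAB)
  have hmap : L₀.map L.subtype = mPart R A := by
    rw [Submodule.map_comap_subtype, inf_eq_right.2 hle]
  obtain ⟨π, hπ₁, hπ₂, hπ₃⟩ := exists_proj_of_isInternal Q hQ (Sum.inr ⁻¹' (B \ A))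
  obtain ⟨π', hπ'₁, hπ'₂, hπ'₃⟩ := exists_proj_of_isInternal Q hQ (Sum.inr ⁻¹' A)
  let J : S ⊗[R] L →ₗ[S] S ⊗[R] M := L.subtype.baseChange S
  have hJ : Function.Injective J := Module.Flat.lTensor_preserves_injective_linearMap _ L.subtype_injective
  have hJrange : LinearMap.range J = iPart Q B := hB
  -- `π` kills exactly `iPart Q A` on `iPart Q B`
  have hkill : ∀ x ∈ iPart Q A, π x = 0 := by
    intro x hx
    suffices h : iPart Q A ≤ LinearMap.ker π from LinearMap.mem_ker.1 (h hx)
    refine iSup₂_le fun i hi y hy => ?_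
    exact LinearMap.mem_ker.2 (hπ₃ i (fun h => h.2 hi) y hy)
  let g : S ⊗[R] L →ₗ[S] S ⊗[R] M := π ∘ₗ J
  have hsplit : ∀ x ∈ iPart Q B, x = π' x + π x := by
    intro x hx
    suffices h : iPart Q B ≤ LinearMap.eqLocus LinearMap.id (π' + π) from h hx
    refine iSup₂_le fun i hi y hy => ?_
    rw [LinearMap.mem_eqLocus, LinearMap.id_apply, LinearMap.add_apply]
    by_cases hiA : i ∈ Sum.inr ⁻¹' A
    · rw [hπ'₁ y (le_iSup₂ (f := fun j (_ : j ∈ Sum.inr ⁻¹' A) => Q j) i hiA hy),
        hkill y (le_iSup₂ (f := fun j (_ : j ∈ Sum.inr ⁻¹' A) => Q j) i hiA hy), add_zero]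
    · rw [hπ₁ y (le_iSup₂ (f := fun j (_ : j ∈ Sum.inr ⁻¹' (B \ A)) => Q j) i ⟨hi, hiA⟩ hy),
        hπ'₃ i hiA y hy, zero_add]
  -- the kernel of `g` is the base change of `L₀`
  let q : S ⊗[R] L →ₗ[S] S ⊗[R] (↥L ⧸ L₀) := L₀.mkQ.baseChange S
  have hq : Function.Surjective q := LinearMap.lTensor_surjective S L₀.mkQ_surjective
  have hex : Function.Exact (L₀.subtype.baseChange S) q :=
    lTensor_exact (R := R) (M := ↥L₀) (N := ↥L) (P := ↥L ⧸ L₀) S (f := L₀.subtype) (g := L₀.mkQ)
      (LinearMap.exact_subtype_mkQ L₀) L₀.mkQ_surjective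
  have hkerq : LinearMap.ker q = LinearMap.range (L₀.subtype.baseChange S) :=
    LinearMap.exact_iff.1 hex
  have himg : (LinearMap.ker q).map J = iPart Q A := by
    rw [hkerq, ← hA, ← hmap, ← LinearMap.range_comp, ← LinearMap.baseChange_comp,
      Submodule.baseChange, ← LinearMap.range_comp_of_range_eq_top (f := ((Submodule.equivMapOfInjective
        L.subtype L.subtype_injective L₀).toLinearMap.baseChange S)) _ (LinearMap.range_eq_top.2
        (LinearMap.lTensor_surjective S (LinearEquiv.surjective _))), ← LinearMap.baseChange_comp]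
    rfl
  have hker : LinearMap.ker g = LinearMap.ker q := by
    refine le_antisymm (fun z hz => ?_) (fun z hz => ?_)
    · have hz' : π (J z) = 0 := hz
      have hJz : J z ∈ iPart Q A := by
        rw [hsplit (J z) (hJrange ▸ ⟨z, rfl⟩), hz', add_zero]
        exact hπ'₂ _
      rw [← himg] at hJz
      obtain ⟨w, hw, hwz⟩ := hJz
      rwa [← hJ hwz]
    · exact LinearMap.mem_ker.2 (hkill (J z) (himg ▸ ⟨z, hz, rfl⟩))
  have hrange : LinearMap.range g = ⨆ i ∈ Sum.inr ⁻¹' (B \ A), Q i := by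
    refine le_antisymm ?_ fun x hx => ?_
    · rintro _ ⟨z, rfl⟩
      exact hπ₂ _
    · obtain ⟨z, hz⟩ : x ∈ LinearMap.range J := by
        rw [hJrange]
        exact (biSup_mono fun i hi => hi.1 : (⨆ i ∈ Sum.inr ⁻¹' (B \ A), Q i) ≤ iPart Q B) hx
      exact ⟨z, (congrArg π hz).trans (hπ₁ x hx)⟩
  haveI : Module.Projective S (LinearMap.range g) :=
    Module.Projective.of_split (R := S) (M := S ⊗[R] M) (LinearMap.range g).subtype
      (π.codRestrict (LinearMap.range g) fun x => hrange ▸ hπ₂ x)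
      (LinearMap.ext fun y => Subtype.ext (hπ₁ _ (hrange ▸ y.2)))
  exact Module.Projective.of_equiv ((g.quotKerEquivRange.symm.trans (Submodule.quotEquivOfEq _ _ hker)).trans
    (q.quotKerEquivOfSurjective hq))

end

end Groth.Agent.CAlgUI
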