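import Groth.Agent.CAlgUI.Descent

/-! Projectivity descends along faithfully flat ring maps. -/

namespace Groth.Agent.CAlgUI

open TensorProduct
open scoped Classical

universe u

variable {R S : Type u} [CommRing R] [CommRing S] [Algebra R S] [Module.FaithfullyFlat R S]
  {M : Type u} [AddCommGroup M] [Module R M]

theorem projective_descent_aux [Module.Projective S (S ⊗[R] M)]
    [LinearOrder M] [WellFoundedLT M] {I : Type u} (Q : I → Submodule S (S ⊗[R] M))
    (hQ : DirectSum.IsInternal Q) (hQc : ∀ i, CAlg.IsCountablyGenerated S (Q i)) :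
    Module.Projective R M := by
  obtain ⟨D, hDc, hD⟩ := exists_adapted Q hQ fun i =>
    exists_countable_span_of_isCountablyGenerated (hQc i)
  choose c hc₀ hcc hcD using fun m : M =>
    exists_countable_closed_set ({Sum.inl m} : Set (M ⊕ I)) (Set.countable_singleton _) D hDc
  let A : WithTop M → Set (M ⊕ I) := fun t => ⋃ m ∈ {m : M | (m : WithTop M) < t}, c m
  have hAclosed : ∀ t, ∀ x ∈ A t, D x ⊆ A t := by
    intro t x hx y hy
    obtain ⟨a, ha, hax⟩ := Set.mem_iUnion₂.1 hx
    exact Set.mem_iUnion₂.2 ⟨a, ha, hcD a x hax hy⟩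
  have hAmono : Monotone A := fun s t h =>
    Set.biUnion_subset_biUnion_left fun i hi => lt_of_lt_of_le hi h
  let Mf : WithTop M → Submodule R M := fun t => mPart R (A t)
  have hmono : Monotone Mf := fun s t h => Submodule.span_mono (Set.preimage_mono (hAmono h))
  have hlim : ∀ s, Order.IsSuccPrelimit s → Mf s = ⨆ t : {t // t < s}, Mf t.1 := by
    intro s hs
    refine le_antisymm (Submodule.span_le.2 fun m hm => ?_) (iSup_le fun t => hmono t.2.le)
    obtain ⟨a, ha, ham⟩ := Set.mem_iUnion₂.1 hm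
    obtain ⟨t, hat, hts⟩ : ∃ t, (a : WithTop M) < t ∧ t < s := by
      by_contra hcon
      exact hs _ ⟨ha, fun c h1 h2 => hcon ⟨c, h1, h2⟩⟩
    exact Submodule.mem_iSup_of_mem ⟨t, hts⟩
      (Submodule.subset_span (Set.mem_iUnion₂.2 ⟨a, hat, ham⟩))
  have htop : (⨆ s, Mf s) = ⊤ := eq_top_iff.2 fun m _ => Submodule.mem_iSup_of_mem ⊤
    (Submodule.subset_span (Set.mem_iUnion₂.2 ⟨m, WithTop.coe_lt_top m, hc₀ m rfl⟩))
  have hstep : ∀ s t : WithTop M, s ⋖ t → ∃ C : Submodule R M,
      Mf s ⊓ C = ⊥ ∧ Mf s ⊔ C = Mf t ∧ Module.Projective R C := by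
    intro s t hst
    cases s with
    | top => exact absurd hst.lt not_top_lt
    | coe a =>
      let L := Mf t
      let L₀ := (Mf a).comap L.subtype
      haveI hproj : Module.Projective S (S ⊗[R] (↥L ⧸ L₀)) :=
        projective_step Q hQ (A a) (A t) (hAmono hst.lt.le) (hD _ (hAclosed _)) (hD _ (hAclosed _))
      haveI : Module.Flat R (↥L ⧸ L₀) := Module.Flat.of_flat_tensorProduct R _ S
      have hcg : CAlg.IsCountablyGenerated R (↥L ⧸ L₀) := by
        refine ⟨L₀.mkQ '' (Subtype.val ⁻¹' (Sum.inl ⁻¹' c a)),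
          (((hcc a).preimage Sum.inl_injective).preimage Subtype.val_injective).image _, ?_⟩
        rw [eq_top_iff]
        rintro x -
        obtain ⟨⟨y, hy⟩, rfl⟩ := L₀.mkQ_surjective x
        have hy' : y ∈ Mf t := hy
        induction hy' using Submodule.span_induction with
        | mem z hz =>
          obtain ⟨b, hb, hbz⟩ := Set.mem_iUnion₂.1 hz
          rcases lt_or_eq_of_le (not_lt.1 fun h => hst.2 h hb) with h | h
          · have h0 : L₀.mkQ ⟨z, hy⟩ = 0 := (Submodule.Quotient.mk_eq_zero L₀).2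
              (Submodule.subset_span (Set.mem_iUnion₂.2 ⟨b, h, hbz⟩))
            rw [h0]
            exact zero_mem _
          · obtain rfl : b = a := WithTop.coe_eq_coe.1 h
            exact Submodule.subset_span ⟨⟨z, hy⟩, hbz, rfl⟩
        | zero => rw [show (⟨0, hy⟩ : L) = 0 from rfl, map_zero]; exact zero_mem _
        | add p q hp hq ihp ihq =>
          rw [show (⟨p + q, hy⟩ : L) = ⟨p, hp⟩ + ⟨q, hq⟩ from rfl, map_add]
          exact add_mem (ihp hp) (ihq hq)
        | smul r p hp ih =>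
          rw [show (⟨r • p, hy⟩ : L) = r • ⟨p, hp⟩ from rfl, map_smul]
          exact Submodule.smul_mem _ r (ih hp)
      haveI hP : Module.Projective R (↥L ⧸ L₀) :=
        projective_of_flat_ml_countablyGenerated (ml_of_faithfullyFlat (S := S) ml_of_projective) hcg
      obtain ⟨σ, hσ⟩ := Module.projective_lifting_property L₀.mkQ LinearMap.id L₀.mkQ_surjective
      have hinj : Function.Injective (L.subtype ∘ₗ σ) :=
        L.subtype_injective.comp fun x y h => by
          simpa [← LinearMap.comp_apply, hσ] using congrArg L₀.mkQ h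
      refine ⟨LinearMap.range (L.subtype ∘ₗ σ), ?_, le_antisymm (sup_le (hmono hst.lt.le) ?_) ?_,
        Module.Projective.of_equiv (LinearEquiv.ofInjective _ hinj)⟩
      · rw [eq_bot_iff]
        rintro z ⟨hz, x, rfl⟩
        have hx : L₀.mkQ (σ x) = 0 := (Submodule.Quotient.mk_eq_zero L₀).2 hz
        rw [← LinearMap.comp_apply, hσ, LinearMap.id_apply] at hx
        simp [hx]
      · rintro _ ⟨x, rfl⟩
        exact (σ x).2
      · intro y hy
        have h1 : L₀.mkQ (⟨y, hy⟩ - σ (L₀.mkQ ⟨y, hy⟩)) = 0 := by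
          rw [map_sub, ← LinearMap.comp_apply L₀.mkQ σ, hσ, LinearMap.id_apply, sub_self]
        have h2 : ((⟨y, hy⟩ - σ (L₀.mkQ ⟨y, hy⟩) : L) : M) ∈ Mf a :=
          (Submodule.Quotient.mk_eq_zero L₀).1 h1
        exact Submodule.mem_sup.2 ⟨_, h2, _, ⟨L₀.mkQ ⟨y, hy⟩, rfl⟩, by simp⟩
  choose C hC₁ hC₂ hC₃ using hstep
  refine projective_of_isInternal (fun p : {p : WithTop M × WithTop M // p.1 ⋖ p.2} => C _ _ p.2)
    ?_ (fun p => hC₃ _ _ p.2)
  convert devissage_isInternal Mf hmono hlim htop (fun p => C _ _ p.2) (fun p => hC₁ _ _ p.2)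
    (fun p => hC₂ _ _ p.2)

theorem projective_descent [Module.Projective S (S ⊗[R] M)] : Module.Projective R M := by
  obtain ⟨I, Q, hQ, hQc⟩ := exists_countablyGenerated_of_projective (R := S) (M := S ⊗[R] M)
  let : LinearOrder M := WellOrderingRel.isWellOrder.linearOrder
  have : WellFoundedLT M := ⟨WellOrderingRel.isWellOrder.wf⟩
  exact projective_descent_aux Q hQ hQc

end Groth.Agent.CAlgUI
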