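import Groth.Agent.CAlgUI.Basic
import Mathlib.RingTheory.Flat.Basic

/-!
Flatness and pure exact sequences; pushouts and domination.
-/

namespace Groth.Agent.CAlgUI

open TensorProduct

universe u

variable {R : Type u} [CommRing R]
  {M₁ M₂ M₃ : Type u} [AddCommGroup M₁] [Module R M₁] [AddCommGroup M₂] [Module R M₂]
  [AddCommGroup M₃] [Module R M₃] {f : M₁ →ₗ[R] M₂} {g : M₂ →ₗ[R] M₃}

/-- A flat quotient gives a universally injective kernel. -/
theorem ui_of_flat_quotient [Module.Flat R M₃] (hf : Function.Injective f) (hex : Function.Exact f g)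
    (hg : Function.Surjective g) : CAlgX.UniversallyInjective R f := by
  intro Q _ _
  rw [injective_iff_map_eq_zero]
  intro t ht
  let π : (Q →₀ R) →ₗ[R] Q := Finsupp.linearCombination R id
  have hπ : Function.Surjective π := fun q => ⟨Finsupp.single q 1, by simp [π]⟩
  have hexπ : Function.Exact (LinearMap.ker π).subtype π := LinearMap.exact_subtype_ker_map π
  obtain ⟨w, rfl⟩ := LinearMap.lTensor_surjective M₁ hπ t
  have h1 : π.lTensor M₂ (f.rTensor _ w) = 0 := by
    rw [← LinearMap.comp_apply, LinearMap.lTensor_comp_rTensor, ← LinearMap.rTensor_comp_lTensor,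
      LinearMap.comp_apply, ht]
  obtain ⟨v, hv⟩ := ((lTensor_exact (R := R) (M := ↥(LinearMap.ker π)) (N := Q →₀ R) (P := Q) M₂
    (f := (LinearMap.ker π).subtype) (g := π) hexπ hπ) _).mp h1
  have h2 : g.rTensor (LinearMap.ker π) v = 0 := by
    refine Module.Flat.lTensor_preserves_injective_linearMap (M := M₃) _
      (LinearMap.ker π).injective_subtype ?_
    rw [← LinearMap.comp_apply, LinearMap.lTensor_comp_rTensor, ← LinearMap.rTensor_comp_lTensor,
      LinearMap.comp_apply, hv, map_zero, ← LinearMap.comp_apply, ← LinearMap.rTensor_comp,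
      show g ∘ₗ f = 0 from hex.linearMap_comp_eq_zero, LinearMap.rTensor_zero, LinearMap.zero_apply]
  obtain ⟨v', rfl⟩ := ((rTensor_exact (R := R) (M := M₁) (N := M₂) (P := M₃) (LinearMap.ker π)
    (f := f) (g := g) hex hg) _).mp h2
  have h3 : (LinearMap.ker π).subtype.lTensor M₁ v' = w := by
    refine Module.Flat.rTensor_preserves_injective_linearMap (M := Q →₀ R) f hf ?_
    rw [← hv, ← LinearMap.comp_apply, LinearMap.rTensor_comp_lTensor, ← LinearMap.lTensor_comp_rTensor,
      LinearMap.comp_apply]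
  rw [← h3, ← LinearMap.comp_apply, ← LinearMap.lTensor_comp,
    show π ∘ₗ (LinearMap.ker π).subtype = 0 from hexπ.linearMap_comp_eq_zero,
    LinearMap.lTensor_zero, LinearMap.zero_apply]

theorem flat_left_of_ui [Module.Flat R M₂] (hf : CAlgX.UniversallyInjective R f) :
    Module.Flat R M₁ := by
  rw [Module.Flat.iff_lTensor_preserves_injective_linearMap]
  intro A B _ _ _ _ i hi
  refine Function.Injective.of_comp (f := f.rTensor B) ?_
  rw [← LinearMap.coe_comp, LinearMap.rTensor_comp_lTensor, ← LinearMap.lTensor_comp_rTensor,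
    LinearMap.coe_comp]
  exact (Module.Flat.lTensor_preserves_injective_linearMap i hi).comp (hf A)

theorem flat_right_of_ui [Module.Flat R M₂] (hex : Function.Exact f g) (hg : Function.Surjective g)
    (hf : CAlgX.UniversallyInjective R f) : Module.Flat R M₃ := by
  rw [Module.Flat.iff_lTensor_preserves_injective_linearMap]
  intro A B _ _ _ _ i hi
  rw [injective_iff_map_eq_zero]
  intro x hx
  obtain ⟨y, rfl⟩ := LinearMap.rTensor_surjective A hg x
  have h1 : g.rTensor B (i.lTensor M₂ y) = 0 := by
    rw [← LinearMap.comp_apply, LinearMap.rTensor_comp_lTensor, ← LinearMap.lTensor_comp_rTensor,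
      LinearMap.comp_apply, hx]
  obtain ⟨z, hz⟩ := ((rTensor_exact B hex hg) _).mp h1
  have hexi : Function.Exact i (LinearMap.range i).mkQ := LinearMap.exact_map_mkQ_range i
  have h2 : (LinearMap.range i).mkQ.lTensor M₁ z = 0 := by
    refine hf _ ?_
    rw [← LinearMap.comp_apply, LinearMap.rTensor_comp_lTensor, ← LinearMap.lTensor_comp_rTensor,
      LinearMap.comp_apply, hz, map_zero, ← LinearMap.comp_apply, ← LinearMap.lTensor_comp,
      show (LinearMap.range i).mkQ ∘ₗ i = 0 from hexi.linearMap_comp_eq_zero,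
      LinearMap.lTensor_zero, LinearMap.zero_apply]
  obtain ⟨z', rfl⟩ := ((lTensor_exact M₁ hexi (Submodule.mkQ_surjective _)) _).mp h2
  have h3 : f.rTensor A z' = y := by
    refine Module.Flat.lTensor_preserves_injective_linearMap (M := M₂) i hi ?_
    rw [← hz, ← LinearMap.comp_apply, LinearMap.lTensor_comp_rTensor, ← LinearMap.rTensor_comp_lTensor,
      LinearMap.comp_apply]
  rw [← h3, ← LinearMap.comp_apply, ← LinearMap.rTensor_comp,
    show g ∘ₗ f = 0 from hex.linearMap_comp_eq_zero, LinearMap.rTensor_zero, LinearMap.zero_apply]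

theorem flat_middle [Module.Flat R M₁] [Module.Flat R M₃] (hf : Function.Injective f)
    (hex : Function.Exact f g) (hg : Function.Surjective g) : Module.Flat R M₂ := by
  rw [Module.Flat.iff_lTensor_preserves_injective_linearMap]
  intro A B _ _ _ _ i hi
  rw [injective_iff_map_eq_zero]
  intro y hy
  have h1 : g.rTensor A y = 0 := by
    refine Module.Flat.lTensor_preserves_injective_linearMap (M := M₃) i hi ?_
    rw [← LinearMap.comp_apply, LinearMap.lTensor_comp_rTensor, ← LinearMap.rTensor_comp_lTensor,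
      LinearMap.comp_apply, hy, map_zero, map_zero]
  obtain ⟨z, rfl⟩ := ((rTensor_exact A hex hg) _).mp h1
  rw [← LinearMap.comp_apply, LinearMap.lTensor_comp_rTensor, ← LinearMap.rTensor_comp_lTensor,
    LinearMap.comp_apply] at hy
  have := (injective_iff_map_eq_zero _).mp (ui_of_flat_quotient hf hex hg B) _ hy
  rw [(injective_iff_map_eq_zero _).mp (Module.Flat.lTensor_preserves_injective_linearMap i hi) _ this,
    map_zero]

/-- A free cover of any module. -/
theorem flat_of_forall_ui {M : Type u} [AddCommGroup M] [Module R M]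
    (H : ∀ (F : Type u) [AddCommGroup F] [Module R F] (K : Submodule R F) (g : F →ₗ[R] M),
      Function.Exact K.subtype g → Function.Surjective g → CAlgX.UniversallyInjective R K.subtype) :
    Module.Flat R M := by
  let π : (M →₀ R) →ₗ[R] M := Finsupp.linearCombination R id
  have hπ : Function.Surjective π := fun q => ⟨Finsupp.single q 1, by simp [π]⟩
  have hexπ : Function.Exact (LinearMap.ker π).subtype π := LinearMap.exact_subtype_ker_map π
  exact flat_right_of_ui (M₁ := ↥(LinearMap.ker π)) (f := (LinearMap.ker π).subtype) hexπ hπ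
    (H _ _ π hexπ hπ)

section Pushout

variable {M N M' : Type u} [AddCommGroup M] [Module R M] [AddCommGroup N] [Module R N]
  [AddCommGroup M'] [Module R M'] (f : M →ₗ[R] N) (g : M →ₗ[R] M')

/-- The canonical map into the pushout. -/
abbrev toPushout : M' →ₗ[R] (M' × N) ⧸ LinearMap.range (g.prod (-f)) :=
  (LinearMap.range (g.prod (-f))).mkQ ∘ₗ LinearMap.inl R M' N

theorem dom_iff_ui_toPushout : Dom f g ↔ CAlgX.UniversallyInjective R (toPushout f g) := by
  have hexp : Function.Exact (g.prod (-f)) (LinearMap.range (g.prod (-f))).mkQ :=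
    LinearMap.exact_map_mkQ_range _
  have hfst : LinearMap.fst R M' N ∘ₗ (g.prod (-f)) = g := LinearMap.fst_prod _ _
  have hsnd : LinearMap.snd R M' N ∘ₗ (g.prod (-f)) = -f := LinearMap.snd_prod _ _
  constructor
  · intro h Q _ _
    rw [injective_iff_map_eq_zero]
    intro t ht
    rw [LinearMap.rTensor_comp, LinearMap.comp_apply] at ht
    obtain ⟨w, hw⟩ := ((rTensor_exact Q hexp (Submodule.mkQ_surjective _)) _).mp ht
    have hs := congrArg ((LinearMap.snd R M' N).rTensor Q) hw
    rw [← LinearMap.comp_apply, ← LinearMap.rTensor_comp, hsnd, ← LinearMap.comp_apply,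
      ← LinearMap.rTensor_comp, LinearMap.snd_comp_inl, LinearMap.rTensor_zero, LinearMap.zero_apply,
      LinearMap.rTensor_neg, LinearMap.neg_apply, neg_eq_zero] at hs
    have hk := congrArg ((LinearMap.fst R M' N).rTensor Q) hw
    rw [← LinearMap.comp_apply, ← LinearMap.rTensor_comp, hfst, ← LinearMap.comp_apply,
      ← LinearMap.rTensor_comp, LinearMap.fst_comp_inl, LinearMap.rTensor_id, LinearMap.id_apply] at hk
    rw [← hk]
    exact h Q hs
  · intro h Q _ _ t ht
    rw [LinearMap.mem_ker] at ht ⊢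
    refine h Q ?_
    have e : toPushout f g ∘ₗ g = ((LinearMap.range (g.prod (-f))).mkQ ∘ₗ LinearMap.inr R M' N) ∘ₗ f := by
      refine LinearMap.ext fun m => (Submodule.Quotient.eq _).mpr ⟨m, ?_⟩
      simp
    rw [map_zero, ← LinearMap.comp_apply, ← LinearMap.rTensor_comp, e, LinearMap.rTensor_comp,
      LinearMap.comp_apply, ht, map_zero]

theorem exists_factor_of_dom [Module.FinitePresentation R (N ⧸ LinearMap.range f)] (h : Dom f g) :
    ∃ k : N →ₗ[R] M', g = k ∘ₗ f := by
  have hui := (dom_iff_ui_toPushout f g).mp h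
  let P : Submodule R (M' × N) := LinearMap.range (g.prod (-f))
  let c : ((M' × N) ⧸ P) →ₗ[R] N ⧸ LinearMap.range f :=
    P.liftQ ((LinearMap.range f).mkQ ∘ₗ LinearMap.snd R M' N) (by
      rintro _ ⟨m, rfl⟩
      exact (Submodule.Quotient.mk_eq_zero _).mpr ⟨-m, by simp⟩)
  have hex : Function.Exact (toPushout f g) c := by
    intro y
    obtain ⟨⟨a, b⟩, rfl⟩ := Submodule.Quotient.mk_surjective _ y
    constructor
    · intro hy
      obtain ⟨m, rfl⟩ := (Submodule.Quotient.mk_eq_zero _).mp hy
      exact ⟨a + g m, (Submodule.Quotient.eq _).mpr ⟨m, by simp⟩⟩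
    · rintro ⟨a', ha⟩
      rw [← ha]
      simp [c, toPushout, P]
  have hc : Function.Surjective c := fun q => by
    obtain ⟨b, rfl⟩ := Submodule.Quotient.mk_surjective _ q
    exact ⟨Submodule.Quotient.mk (0, b), by simp [c]⟩
  obtain ⟨s, hs⟩ := exists_lift_of_ui hex hc hui LinearMap.id
  obtain ⟨r, hr⟩ : ∃ r : ((M' × N) ⧸ P) →ₗ[R] M', r ∘ₗ toPushout f g = LinearMap.id := by
    have hmem : ∀ x, x - s (c x) ∈ LinearMap.range (toPushout f g) := fun x =>
      (hex _).mp (by
        rw [map_sub, ← LinearMap.comp_apply (f := c) (g := s), hs, LinearMap.id_apply, sub_self])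
    refine ⟨(LinearEquiv.ofInjective _ (ui_injective hui)).symm.toLinearMap ∘ₗ
      LinearMap.codRestrict _ (LinearMap.id - s ∘ₗ c) hmem, LinearMap.ext fun a => ?_⟩
    simp only [LinearMap.comp_apply, LinearEquiv.coe_coe, LinearEquiv.symm_apply_eq, LinearMap.id_apply]
    refine Subtype.ext ?_
    have h0 : c ((toPushout f g) a) = 0 := hex.apply_apply_eq_zero a
    simp only [LinearMap.comp_apply] at h0
    have h1 : c (Submodule.Quotient.mk (a, 0)) = 0 := h0
    simp [h1]
  refine ⟨r ∘ₗ P.mkQ ∘ₗ LinearMap.inr R M' N, LinearMap.ext fun m => ?_⟩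
  have e : P.mkQ (g m, 0) = P.mkQ (0, f m) := (Submodule.Quotient.eq _).mpr ⟨m, by simp⟩
  have e2 := congrArg r e
  calc g m = r (toPushout f g (g m)) := (LinearMap.congr_fun hr (g m)).symm
    _ = _ := e2

end Pushout

end Groth.Agent.CAlgUI
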