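import Groth.Agent.IntBC.Main
import Groth.Agent.S1182
import Groth.Agent.Hensel.HenselizationNormal
import Mathlib

/-! Normality of field base changes is tested on finite purely inseparable extensions (S2070). -/

set_option autoImplicit false
set_option linter.style.haveILetI false

universe u

open TensorProduct

namespace Groth.Agent.CAlgUI.GeomNormal

theorem isNormalRing_desc (A B : Type u) [CommRing A] [CommRing B] [Algebra A B] [Module.FaithfullyFlat A B]
    (h : EGA4.IsNormalRing B) : EGA4.IsNormalRing A := by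
  intro p _
  obtain ⟨Q, hQ⟩ := PrimeSpectrum.comap_surjective_of_faithfullyFlat (A := A) (B := B) ⟨p, ‹_›⟩
  have hQ' : p = Q.asIdeal.comap (algebraMap A B) := (congrArg PrimeSpectrum.asIdeal hQ).symm
  let f := Localization.localRingHom p Q.asIdeal (algebraMap A B) hQ'
  letI := f.toAlgebra
  haveI : Module.Flat (Localization.AtPrime p) (Localization.AtPrime Q.asIdeal) :=
    RingHom.flat_algebraMap_iff.1
      (RingHom.Flat.localRingHom (RingHom.flat_algebraMap_iff.2 inferInstance) Q.asIdeal p hQ')
  haveI : IsLocalHom (algebraMap (Localization.AtPrime p) (Localization.AtPrime Q.asIdeal)) :=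
    Localization.isLocalHom_localRingHom p Q.asIdeal (algebraMap A B) hQ'
  haveI := Module.FaithfullyFlat.of_flat_of_isLocalHom (A := Localization.AtPrime p) (B := Localization.AtPrime Q.asIdeal)
  haveI := (h Q.asIdeal).1
  haveI := (h Q.asIdeal).2
  exact Groth.Agent.Hensel.isIntegrallyClosed_of_faithfullyFlat (Localization.AtPrime p) (Localization.AtPrime Q.asIdeal)

theorem permanence : FlatLoc6.Permanence.{u} (fun R _ => EGA4.IsNormalRing R) where
  equiv {R S} _ _ e h := FlatLoc6.isNormalRing_of_ringEquiv e h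
  smooth A B _ _ _ _ h := (S1182.result A B).1 h
  loc {R} _ M C _ _ _ h := FlatLoc6.isNormalRing_of_isLocalization M C h
  desc A B _ _ _ _ h := isNormalRing_desc A B h

/-- Directed unions of normal rings along flat maps are normal. -/
theorem isNormalRing_of_directed {T : Type u} [CommRing T]
    (h : ∀ s : Finset T, ∃ (T₀ : Type u) (_ : CommRing T₀) (f : T₀ →+* T),
      f.Flat ∧ (s : Set T) ⊆ Set.range f ∧ EGA4.IsNormalRing T₀) : EGA4.IsNormalRing T := by
  classical
  intro Q _
  let L := Localization.AtPrime Q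
  choose F hF using fun z : L => IsLocalization.surj Q.primeCompl z
  -- a stage containing given elements of the local ring
  have stage : ∀ zs : Finset L, ∃ (L₀ : Type u) (_ : CommRing L₀) (g : L₀ →+* L), Function.Injective g ∧
      IsDomain L₀ ∧ IsIntegrallyClosed L₀ ∧ (zs : Set L) ⊆ Set.range g := by
    intro zs
    obtain ⟨T₀, _, f, hf, hsub, hn⟩ := h (zs.image (fun z => (F z).1) ∪ zs.image (fun z => ((F z).2 : T)))
    let Q₀ := Q.comap f
    haveI : Q₀.IsPrime := Ideal.IsPrime.comap f
    let lr : Localization.AtPrime Q₀ →+* L := Localization.localRingHom Q₀ Q f rfl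
    have hlf : lr.Flat := RingHom.Flat.localRingHom hf Q Q₀ rfl
    letI := lr.toAlgebra
    haveI : Module.Flat (Localization.AtPrime Q₀) L := hlf
    haveI : IsLocalHom (algebraMap (Localization.AtPrime Q₀) L) :=
      Localization.isLocalHom_localRingHom Q₀ Q f rfl
    haveI := Module.FaithfullyFlat.of_flat_of_isLocalHom (A := Localization.AtPrime Q₀) (B := L)
    refine ⟨Localization.AtPrime Q₀, inferInstance, lr, FaithfulSMul.algebraMap_injective _ L, (hn Q₀).1,
      (hn Q₀).2, fun z hz => ?_⟩
    obtain ⟨a₀, ha₀⟩ := hsub (Finset.mem_coe.2 (Finset.mem_union_left _ (Finset.mem_image_of_mem (fun z => (F z).1) hz)))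
    obtain ⟨s₀, hs₀⟩ := hsub (Finset.mem_coe.2 (Finset.mem_union_right _ (Finset.mem_image_of_mem (fun z => ((F z).2 : T)) hz)))
    have hs₀Q : s₀ ∉ Q₀ := fun hh => (F z).2.2 (hs₀ ▸ hh)
    refine ⟨IsLocalization.mk' _ a₀ (⟨s₀, hs₀Q⟩ : Q₀.primeCompl), ?_⟩
    rw [Localization.localRingHom_mk', IsLocalization.mk'_eq_iff_eq_mul]
    simp only [ha₀, hs₀]
    exact (hF z).symm
  haveI : NoZeroDivisors L := ⟨fun {x y} hxy => by
    obtain ⟨L₀, _, g, hg, hd, -, hsub⟩ := stage {x, y}
    haveI := hd
    obtain ⟨x₀, rfl⟩ := hsub (show x ∈ _ by simp)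
    obtain ⟨y₀, rfl⟩ := hsub (show y ∈ _ by simp)
    rcases mul_eq_zero.1 (hg (show g (x₀ * y₀) = g 0 by rw [map_mul, map_zero, hxy])) with h1 | h1
    · exact Or.inl (by rw [h1, map_zero])
    · exact Or.inr (by rw [h1, map_zero])⟩
  haveI : IsDomain L := NoZeroDivisors.to_isDomain _
  refine ⟨inferInstance, ?_⟩
  rw [isIntegrallyClosed_iff (FractionRing L)]
  intro x hx
  obtain ⟨p, hp, hpx⟩ := hx
  obtain ⟨num, den, hden, hnd⟩ := IsFractionRing.div_surjective L x
  obtain ⟨L₀, _, g, hg, hd, hic, hsub⟩ := stage ({num, den} ∪ (Finset.range (p.natDegree + 1)).image p.coeff)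
  haveI := hd
  haveI := hic
  obtain ⟨n₀, hn₀⟩ := hsub (show num ∈ _ by simp)
  obtain ⟨d₀, hd₀⟩ := hsub (show den ∈ _ by simp)
  have hlift : p ∈ Polynomial.lifts g := by
    rw [Polynomial.lifts_iff_coeff_lifts]
    intro i
    by_cases hi : i ≤ p.natDegree
    · exact hsub (Finset.mem_coe.2 (Finset.mem_union_right _ (Finset.mem_image_of_mem _ (Finset.mem_range.2 (by omega)))))
    · rw [Polynomial.coeff_eq_zero_of_natDegree_lt (by omega)]
      exact ⟨0, map_zero g⟩
  obtain ⟨p₀, hp₀, -, hp₀m⟩ := Polynomial.lifts_and_natDegree_eq_and_monic hlift hp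
  let K₀ := FractionRing L₀
  let j : K₀ →+* FractionRing L :=
    IsFractionRing.lift (g := (algebraMap L (FractionRing L)).comp g) ((IsFractionRing.injective L _).comp hg)
  have hj : ∀ z, j (algebraMap L₀ K₀ z) = algebraMap L (FractionRing L) (g z) := fun z =>
    IsLocalization.lift_eq _ z
  let x₀ := algebraMap L₀ K₀ n₀ / algebraMap L₀ K₀ d₀
  have hx₀ : j x₀ = x := by rw [map_div₀, hj, hj, hn₀, hd₀, hnd]
  have hint : IsIntegral L₀ x₀ := ⟨p₀, hp₀m, j.injective (by
    rw [Polynomial.hom_eval₂, map_zero, hx₀, show j.comp (algebraMap L₀ K₀) = (algebraMap L (FractionRing L)).comp g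
      from RingHom.ext hj, ← Polynomial.eval₂_map, hp₀, hpx])⟩
  obtain ⟨y, hy⟩ := IsIntegrallyClosed.isIntegral_iff.1 hint
  exact ⟨g y, by rw [← hj, hy, hx₀]⟩

theorem flat_map {k F K A : Type u} [Field k] [Field F] [Field K] [Algebra k F] [Algebra F K] [Algebra k K]
    [IsScalarTower k F K] [CommRing A] [Algebra k A] :
    (Algebra.TensorProduct.map (IsScalarTower.toAlgHom k F K) (AlgHom.id k A)).toRingHom.Flat := by
  let e := Algebra.TensorProduct.cancelBaseChange k F K K A
  let c := Algebra.TensorProduct.comm F (F ⊗[k] A) K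
  have h1 : (algebraMap (F ⊗[k] A) ((F ⊗[k] A) ⊗[F] K)).Flat := RingHom.flat_algebraMap_iff.2 inferInstance
  have h2 := RingHom.Flat.comp (RingHom.Flat.comp h1
    (RingHom.Flat.of_bijective (f := c.toRingEquiv.toRingHom) c.bijective))
    (RingHom.Flat.of_bijective (f := e.toRingEquiv.toRingHom) e.bijective)
  convert h2 using 1
  refine RingHom.ext fun z => ?_
  induction z using TensorProduct.induction_on with
  | zero => simp
  | tmul a b => simp [e, c, Algebra.smul_def, Algebra.TensorProduct.algebraMap_apply]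
  | add a b ha hb => simp only [map_add, ha, hb]

/-- Normality of all field base changes from the finite purely inseparable ones. -/
theorem isNormalRing_tensor {k A : Type u} [Field k] [CommRing A] [Algebra k A]
    (h : ∀ (k' : Type u) [Field k'] [Algebra k k'], Module.Finite k k' → IsPurelyInseparable k k' →
      EGA4.IsNormalRing (k' ⊗[k] A))
    (K : Type u) [Field K] [Algebra k K] : EGA4.IsNormalRing (K ⊗[k] A) := by
  classical
  refine isNormalRing_of_directed fun s => ?_
  choose t ht using fun x : K ⊗[k] A => FlatLoc6.exists_finset_defined k K A x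
  let K₀ := IntermediateField.adjoin k ((s.biUnion t : Finset K) : Set K)
  haveI : Algebra.EssFiniteType k K₀ := IntermediateField.essFiniteType_iff.mpr ⟨s.biUnion t, rfl⟩
  refine ⟨K₀ ⊗[k] A, inferInstance, (Algebra.TensorProduct.map K₀.val (AlgHom.id k A)).toRingHom, ?_, ?_,
    permanence.of_insep k A h K₀⟩
  · exact flat_map (k := k) (F := K₀) (K := K) (A := A)
  · intro x hx
    obtain ⟨y, hy⟩ := ht x K₀ fun a ha =>
      IntermediateField.subset_adjoin k _ (Finset.mem_biUnion.mpr ⟨x, hx, ha⟩)
    exact ⟨y, hy⟩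

end Groth.Agent.CAlgUI.GeomNormal
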