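import Groth.Agent.CAlgUI.Kaplansky
import Mathlib.RingTheory.LocalRing.ResidueField.Basic
import Mathlib.Algebra.Module.Projective
import Mathlib.LinearAlgebra.FreeModule.Basic
import Mathlib.LinearAlgebra.Finsupp.VectorSpace
import Mathlib.LinearAlgebra.Matrix.ToLin
import Mathlib.LinearAlgebra.Matrix.NonsingularInverse

/-! Projective modules over local rings are free. -/

namespace Groth.Agent.CAlgUI

open DirectSum
open scoped Classical

universe u

variable {R : Type u} [CommRing R]

theorem elem_in_free_summand_aux [IsLocalRing R] {P F : Type u} [AddCommGroup P] [Module R P]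
    [AddCommGroup F] [Module R F] (i : P →ₗ[R] F) (q : F →ₗ[R] P) (hq : ∀ y, q (i y) = y) (x : P) :
    ∀ (n : ℕ) (w : Fin n → F) (r : F →ₗ[R] (Fin n → R)) (a : Fin n → R),
      (∀ k, r (w k) = Pi.single k 1) → i x = ∑ k, a k • w k →
      ∃ (m : ℕ) (u : (Fin m → R) →ₗ[R] P) (v : P →ₗ[R] (Fin m → R)),
        v ∘ₗ u = LinearMap.id ∧ x ∈ LinearMap.range u := by
  intro n
  induction n with
  | zero =>
    intro w r a _ hx
    have hx0 : x = 0 := by
      rw [← hq x, hx]
      simp
    exact ⟨0, 0, 0, Subsingleton.elim _ _, by simp [hx0]⟩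
  | succ n ih =>
    intro w r a hr hx
    by_cases hdep : ∃ (c : Fin (n + 1) → R) (k : Fin (n + 1)), IsUnit (c k) ∧ ∑ l, c l * a l = 0
    · -- eliminate the coordinate `k`
      obtain ⟨c, k, hk, hc⟩ := hdep
      obtain ⟨u, hu⟩ := hk.exists_left_inv
      let d : Fin (n + 1) → R := fun l => -(u * c l)
      have hd : a k = ∑ l : Fin n, d (k.succAbove l) * a (k.succAbove l) := by
        rw [Fin.sum_univ_succAbove _ k] at hc
        calc a k = u * c k * a k := by rw [hu, one_mul]
          _ = u * (-(∑ l : Fin n, c (k.succAbove l) * a (k.succAbove l))) := by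
              rw [mul_assoc, eq_neg_of_add_eq_zero_left hc]
          _ = _ := by
              rw [mul_neg, Finset.mul_sum, ← Finset.sum_neg_distrib]
              exact Finset.sum_congr rfl fun l _ => by simp [d, mul_assoc]
      refine ih (fun l => w (k.succAbove l) + d (k.succAbove l) • w k)
        (LinearMap.funLeft R R k.succAbove ∘ₗ r) (fun l => a (k.succAbove l)) (fun l => ?_) ?_
      · ext l'
        simp [hr, LinearMap.funLeft, Pi.single_apply, Fin.succAbove_ne, Fin.succAbove_right_inj]
      · rw [hx, Fin.sum_univ_succAbove _ k, hd, Finset.sum_smul, ← Finset.sum_add_distrib]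
        refine Finset.sum_congr rfl fun l _ => ?_
        rw [smul_add, smul_smul, mul_comm (a (k.succAbove l)), add_comm]
    · push_neg at hdep
      let B : Matrix (Fin (n + 1)) (Fin (n + 1)) R := Matrix.of fun j k => r (i (q (w k))) j
      have hBa : B.mulVec a = a := by
        have h1 : r (i (q (i x))) = a := by
          rw [hq, hx, map_sum]
          simp only [map_smul, hr]
          exact (pi_eq_sum_univ' a).symm
        rw [hx] at h1
        conv_rhs => rw [← h1]
        ext j
        simp [B, Matrix.mulVec, dotProduct, map_sum, mul_comm]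
      have hB : ∀ j k, ¬ IsUnit ((B - 1) j k) := fun j k hu => by
        refine hdep (fun l => (B - 1) j l) k hu ?_
        have h2 : ((B - 1).mulVec a) j = 0 := by
          rw [Matrix.sub_mulVec, Matrix.one_mulVec, hBa, sub_self, Pi.zero_apply]
        exact h2
      have hdet : IsUnit B.det := by
        refine IsUnit.of_map (IsLocalRing.residue R) _ ?_
        rw [RingHom.map_det]
        have hres : (IsLocalRing.residue R).mapMatrix B = 1 := by
          have h3 : (IsLocalRing.residue R).mapMatrix (B - 1) = 0 := by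
            ext j k
            exact (IsLocalRing.residue_eq_zero_iff _).2 (hB j k)
          rwa [map_sub, map_one, sub_eq_zero] at h3
        rw [hres, Matrix.det_one]
        exact isUnit_one
      let U : (Fin (n + 1) → R) →ₗ[R] P := Fintype.linearCombination R fun k => q (w k)
      have hU : r ∘ₗ i ∘ₗ U = B.mulVecLin := by
        ext c j
        simp [U, B, Fintype.linearCombination_apply, Matrix.mulVec, dotProduct, Pi.single_apply]
      refine ⟨n + 1, U, B⁻¹.mulVecLin ∘ₗ r ∘ₗ i, ?_, a, ?_⟩
      · rw [LinearMap.comp_assoc, LinearMap.comp_assoc, hU, ← Matrix.mulVecLin_mul,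
          Matrix.nonsing_inv_mul B hdet, Matrix.mulVecLin_one]
      · rw [← hq x, hx, map_sum]
        simp [U, Fintype.linearCombination_apply]

theorem elem_in_free_summand [IsLocalRing R] {P : Type u} [AddCommGroup P] [Module R P]
    [Module.Projective R P] (x : P) :
    ∃ (m : ℕ) (u : (Fin m → R) →ₗ[R] P) (v : P →ₗ[R] (Fin m → R)),
      v ∘ₗ u = LinearMap.id ∧ x ∈ LinearMap.range u := by
  obtain ⟨s, hs⟩ := Module.projective_def'.1 ‹Module.Projective R P›
  let supp := (s x).support
  let e := supp.equivFin
  refine elem_in_free_summand_aux s (Finsupp.linearCombination R id) (fun y => LinearMap.congr_fun hs y) x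
    supp.card (fun k => Finsupp.single (e.symm k : P) 1)
    (LinearMap.pi fun k => Finsupp.lapply (e.symm k : P)) (fun k => s x (e.symm k)) (fun k => ?_) ?_
  · ext k'
    simp [Finsupp.single_apply, Pi.single_apply, Subtype.coe_inj, eq_comm]
  · conv_lhs => rw [← Finsupp.sum_single (s x), Finsupp.sum]
    rw [← Finset.sum_coe_sort supp, ← e.symm.sum_comp]
    simp

theorem step_free_summand [IsLocalRing R] {P : Type u} [AddCommGroup P] [Module R P]
    [Module.Projective R P] (E : P →ₗ[R] P) (hE : ∀ x, E (E x) = E x) (y : P) :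
    ∃ (m : ℕ) (u : (Fin m → R) →ₗ[R] P) (v : P →ₗ[R] (Fin m → R)),
      v ∘ₗ u = LinearMap.id ∧ E ∘ₗ u = 0 ∧ v ∘ₗ E = 0 ∧ E y + u (v y) = y := by
  let K := LinearMap.ker E
  let pr : P →ₗ[R] K := (LinearMap.id - E).codRestrict K fun x => by simp [K, hE]
  have hpr : pr ∘ₗ K.subtype = LinearMap.id := LinearMap.ext fun z => Subtype.ext (by
    simp [pr, (LinearMap.mem_ker.1 z.2)])
  haveI : Module.Projective R K := Module.Projective.of_split (R := R) (M := P) K.subtype pr hpr
  obtain ⟨m, u, v, hvu, z, hz⟩ := elem_in_free_summand (R := R) (pr y)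
  refine ⟨m, K.subtype ∘ₗ u, v ∘ₗ pr, ?_, LinearMap.ext fun c => LinearMap.mem_ker.1 (u c).2, ?_, ?_⟩
  · rw [LinearMap.comp_assoc, ← LinearMap.comp_assoc _ K.subtype pr, hpr, LinearMap.id_comp, hvu]
  · have h0 : pr ∘ₗ E = 0 := LinearMap.ext fun c => Subtype.ext (by simp [pr, hE])
    rw [LinearMap.comp_assoc, h0, LinearMap.comp_zero]
  · have h1 : u (v (pr y)) = pr y := by
      rw [← hz]
      exact congrArg u (LinearMap.congr_fun hvu z)
    simp only [LinearMap.comp_apply, h1]
    simp [pr]

theorem free_of_countablyGenerated [IsLocalRing R] {P : Type u} [AddCommGroup P] [Module R P]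
    [Module.Projective R P] (hc : CAlg.IsCountablyGenerated R P) : Module.Free R P := by
  obtain ⟨s, hs, hspan⟩ := hc
  obtain ⟨gen, hgen⟩ := (hs.insert 0).exists_eq_range (Set.insert_nonempty _ _)
  choose m u v hvu hEu hvE hfix using fun (E : {E : P →ₗ[R] P // ∀ x, E (E x) = E x}) (y : P) =>
    step_free_summand E.1 E.2 y
  let St : ℕ → {E : P →ₗ[R] P // ∀ x, E (E x) = E x} := fun n => Nat.rec ⟨0, fun _ => rfl⟩
    (fun k E => ⟨E.1 + u E (gen k) ∘ₗ v E (gen k), fun x => by
      have h1 := LinearMap.congr_fun (hvu E (gen k))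
      have h2 := LinearMap.congr_fun (hEu E (gen k))
      have h3 := LinearMap.congr_fun (hvE E (gen k))
      simp only [LinearMap.comp_apply, LinearMap.id_apply, LinearMap.zero_apply] at h1 h2 h3
      simp [map_add, E.2, h1, h2, h3]⟩) n
  let E : ℕ → (P →ₗ[R] P) := fun n => (St n).1
  let a : ℕ → ℕ := fun n => m (St n) (gen n)
  let b : ∀ n, P →ₗ[R] (Fin (a n) → R) := fun n => v (St n) (gen n)
  let c : ∀ n, (Fin (a n) → R) →ₗ[R] P := fun n => u (St n) (gen n)
  have hbc : ∀ n z, b n (c n z) = z := fun n z => LinearMap.congr_fun (hvu _ _) z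
  have hEc : ∀ n z, E n (c n z) = 0 := fun n z => LinearMap.congr_fun (hEu _ _) z
  have hbE : ∀ n z, b n (E n z) = 0 := fun n z => LinearMap.congr_fun (hvE _ _) z
  have hidem : ∀ n z, E n (E n z) = E n z := fun n => (St n).2
  have hsucc : ∀ n z, E (n + 1) z = E n z + c n (b n z) := fun n z => rfl
  -- fixed points are increasing
  have hup : ∀ n j, n ≤ j → ∀ z, E n z = z → E j z = z := by
    intro n j hnj
    induction j, hnj using Nat.le_induction with
    | base => exact fun z hz => hz
    | succ j _ ih =>
      intro z hz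
      have h := ih z hz
      rw [hsucc, h, ← h, hbE, map_zero, add_zero]
  -- kernels are decreasing
  have hdown : ∀ n j, n ≤ j → ∀ z, E j z = 0 → E n z = 0 := by
    intro n j hnj
    induction j, hnj using Nat.le_induction with
    | base => exact fun z hz => hz
    | succ j _ ih =>
      intro z hz
      rw [hsucc] at hz
      refine ih z ?_
      have := congrArg (E j) hz
      rwa [map_add, hidem, hEc, add_zero, map_zero] at this
  have hfix' : ∀ n, E (n + 1) (gen n) = gen n := fun n => hfix _ _
  have hev : ∀ x, ∃ N, E N x = x := by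
    intro x
    have hx : x ∈ Submodule.span R s := hspan ▸ Submodule.mem_top
    induction hx using Submodule.span_induction with
    | mem y hy =>
      obtain ⟨k, rfl⟩ : y ∈ Set.range gen := hgen ▸ Set.mem_insert_of_mem 0 hy
      exact ⟨k + 1, hfix' k⟩
    | zero => exact ⟨0, map_zero _⟩
    | add p q _ _ hp hq =>
      obtain ⟨Np, hp⟩ := hp
      obtain ⟨Nq, hq⟩ := hq
      exact ⟨max Np Nq, by
        rw [map_add, hup _ _ (le_max_left _ _) p hp, hup _ _ (le_max_right _ _) q hq]⟩
    | smul t p _ hp =>
      obtain ⟨Np, hp⟩ := hp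
      exact ⟨Np, by rw [map_smul, hp]⟩
  have horth : ∀ j k, j ≠ k → ∀ z, b j (c k z) = 0 := by
    intro j k hjk z
    rcases Nat.lt_or_lt_of_ne hjk with h | h
    · have h0 : E (j + 1) (c k z) = 0 := hdown (j + 1) k h _ (hEc k z)
      have hz : c j (b j (c k z)) = 0 := by
        rw [hsucc, hdown j k h.le _ (hEc k z), zero_add] at h0
        exact h0
      rw [← hbc j (b j (c k z)), hz, map_zero]
    · have h1 : E j (c k z) = c k z := hup (k + 1) j h _ (by rw [hsucc, hEc, zero_add, hbc])
      rw [← h1, hbE]
  -- assemble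
  let Φ : (⨁ n, (Fin (a n) → R)) →ₗ[R] P := DirectSum.toModule R ℕ P c
  have hb : ∀ (z : ⨁ n, (Fin (a n) → R)) j, b j (Φ z) = z j := by
    intro z j
    induction z using DirectSum.induction_on with
    | zero => simp
    | of k y =>
      rw [← DirectSum.lof_eq_of R]
      simp only [Φ, DirectSum.toModule_lof]
      by_cases hjk : j = k
      · subst hjk
        rw [hbc, DirectSum.lof_apply]
      · rw [horth j k hjk, DirectSum.lof_eq_of, DirectSum.of_eq_of_ne _ _ _ hjk]
    | add p q hp hq => rw [map_add, map_add, hp, hq]; rfl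
  have hbij : Function.Bijective Φ := by
    constructor
    · intro z z' hzz'
      refine DFinsupp.ext fun j => ?_
      rw [← hb z j, ← hb z' j, hzz']
    · intro x
      obtain ⟨N, hN⟩ := hev x
      have hsum : ∀ n, ∑ k ∈ Finset.range n, c k (b k x) = E n x := by
        intro n
        induction n with
        | zero => rfl
        | succ n ih => rw [Finset.sum_range_succ, ih, hsucc]
      refine ⟨∑ k ∈ Finset.range N, DirectSum.lof R ℕ _ k (b k x), ?_⟩
      rw [map_sum]
      conv_rhs => rw [← hN, ← hsum]
      exact Finset.sum_congr rfl fun k _ => by simp only [Φ, DirectSum.toModule_lof]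
  let e' : (Π₀ n, (Fin (a n) → R)) ≃ₗ[R] P := LinearEquiv.ofBijective Φ hbij
  exact Module.Free.of_equiv e'

theorem free_of_projective_local [IsLocalRing R] (P : Type u) [AddCommGroup P] [Module R P]
    [Module.Projective R P] {κ : Type u} (L : κ → Submodule R P) (hL : DirectSum.IsInternal L)
    (hc : ∀ k, CAlg.IsCountablyGenerated R (L k)) : Module.Free R P := by
  let e : (⨁ j, L j) ≃ₗ[R] P := LinearEquiv.ofBijective (DirectSum.coeLinearMap L) hL
  haveI : ∀ k, Module.Free R (L k) := fun k => by
    haveI : Module.Projective R (L k) := Module.Projective.of_split (L k).subtype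
      (DirectSum.component R κ (fun j => L j) k ∘ₗ e.symm.toLinearMap) (LinearMap.ext fun y => by
        have he : e.symm y = DirectSum.lof R κ (fun j => L j) k y := by
          rw [LinearEquiv.symm_apply_eq]
          exact (DirectSum.coeLinearMap_of L k y).symm
        simp [he, DirectSum.component.lof_self])
    exact free_of_countablyGenerated (hc k)
  let e' : (Π₀ j, L j) ≃ₗ[R] P := e
  exact Module.Free.of_equiv e'

end Groth.Agent.CAlgUI
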