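import Mathlib.Algebra.Module.Projective
import Mathlib.LinearAlgebra.FreeModule.Basic
import Mathlib.LinearAlgebra.Finsupp.VectorSpace
import Mathlib.LinearAlgebra.Finsupp.SumProd
import Mathlib.LinearAlgebra.Projection
import Mathlib.LinearAlgebra.Finsupp.Pi
import Mathlib.RingTheory.Finiteness.Basic
import Mathlib.SetTheory.Cardinal.Arithmetic

/-! Eilenberg swindle. -/

namespace Groth.Agent.CAlgUI

open Cardinal
open scoped Classical

universe u

variable {R : Type u} [CommRing R] {P Q : Type u} [AddCommGroup P] [Module R P]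
  [AddCommGroup Q] [Module R Q]

/-- `(ℕ →₀ P × Q) ≃ (ℕ →₀ P) × (ℕ →₀ Q)` -/
noncomputable def natFinsuppProd : (ℕ →₀ (P × Q)) ≃ₗ[R] ((ℕ →₀ P) × (ℕ →₀ Q)) :=
  LinearEquiv.ofLinearMap
    ((Finsupp.mapRange.linearMap (LinearMap.fst R P Q)).prod (Finsupp.mapRange.linearMap (LinearMap.snd R P Q)))
    ((Finsupp.mapRange.linearMap (LinearMap.inl R P Q)).coprod (Finsupp.mapRange.linearMap (LinearMap.inr R P Q)))
    (by
      apply LinearMap.ext
      rintro ⟨a, b⟩
      refine Prod.ext (Finsupp.ext fun n => ?_) (Finsupp.ext fun n => ?_) <;> simp)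
    (by
      apply LinearMap.ext
      intro a
      refine Finsupp.ext fun n => ?_
      simp)

/-- `P × (ℕ →₀ P) ≃ (ℕ →₀ P)` -/
noncomputable def natFinsuppAbsorb : (P × (ℕ →₀ P)) ≃ₗ[R] (ℕ →₀ P) :=
  ((Finsupp.LinearEquiv.finsuppUnique R P PUnit.{1}).symm.prodCongr (LinearEquiv.refl R _)).trans
    ((Finsupp.sumFinsuppLEquivProdFinsupp R).symm.trans
      (Finsupp.domLCongr ((Equiv.sumComm _ _).trans Equiv.natSumPUnitEquivNat)))

theorem swindle {ι : Type u} [Infinite ι] (e : (P × Q) ≃ₗ[R] (ι →₀ R)) :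
    Nonempty ((P × (ι →₀ R)) ≃ₗ[R] (ι →₀ R)) := by
  have hcard : #(ℕ × ι) = #ι := by
    rw [mk_prod, lift_uzero, mk_nat, lift_aleph0, mul_eq_right (aleph0_le_mk ι) (aleph0_le_mk ι) aleph0_ne_zero]
  obtain ⟨eι⟩ := Cardinal.eq.1 hcard
  let F : (ℕ →₀ (P × Q)) ≃ₗ[R] (ι →₀ R) :=
    (Finsupp.mapRange.linearEquiv e).trans ((Finsupp.curryLinearEquiv R).symm.trans (Finsupp.domLCongr eι))
  exact ⟨((LinearEquiv.refl R P).prodCongr (F.symm.trans natFinsuppProd)).trans
    (((LinearEquiv.prodAssoc R P (ℕ →₀ P) (ℕ →₀ Q)).symm.trans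
      ((natFinsuppAbsorb).prodCongr (LinearEquiv.refl R _))).trans (natFinsuppProd.symm.trans F))⟩

theorem exists_free_complement [Module.Projective R P] :
    ∃ ι : Type u, Module.Free R (P × (ι →₀ R)) := by
  let π : ((P × ULift.{u} ℕ) →₀ R) →ₗ[R] P := Finsupp.linearCombination R Prod.fst
  obtain ⟨s, hs⟩ := Module.projective_lifting_property π LinearMap.id fun x =>
    ⟨Finsupp.single (x, ULift.up 0) 1, by simp [π]⟩
  have hinj : Function.Injective s := fun a b h => by
    have := congrArg π h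
    rwa [← LinearMap.comp_apply, ← LinearMap.comp_apply, hs] at this
  have hπs : ∀ y, π (s y) = y := fun y => LinearMap.congr_fun hs y
  have hc : IsCompl (LinearMap.range s) (LinearMap.ker π) := by
    refine ⟨Submodule.disjoint_def.2 ?_, codisjoint_iff.2 (eq_top_iff.2 fun x _ => ?_)⟩
    · rintro _ ⟨y, rfl⟩ hy
      rw [LinearMap.mem_ker, hπs] at hy
      rw [hy, map_zero]
    · exact Submodule.mem_sup.2 ⟨s (π x), ⟨_, rfl⟩, x - s (π x),
        by rw [LinearMap.mem_ker, map_sub, hπs, sub_self], add_sub_cancel _ _⟩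
  have hinf : Infinite (P × ULift.{u} ℕ) := inferInstance
  obtain ⟨e⟩ := swindle (P := P) (Q := ↥(LinearMap.ker π)) (((LinearEquiv.ofInjective s hinj).prodCongr (LinearEquiv.refl R ↥(LinearMap.ker π))).trans
    (Submodule.prodEquivOfIsCompl _ _ hc))
  exact ⟨P × ULift.{u} ℕ, Module.Free.of_equiv e.symm⟩

theorem exists_finite_free_summand [Module.Projective R P] (s : P) :
    ∃ (n : ℕ) (K K' : Submodule R ((Fin n → R) × P)), IsCompl K K' ∧ Module.Free R K ∧
      Module.Finite R K ∧ ((0, s) : (Fin n → R) × P) ∈ K := by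
  obtain ⟨ι, hfree⟩ := exists_free_complement (R := R) (P := P)
  let b := Module.Free.chooseBasis R (P × (ι →₀ R))
  let t := (b.repr (s, 0)).support
  -- the finite coordinates occupied by the basis vectors in `t`
  let v : Finset ι := t.biUnion fun k => (b k).2.support
  let n := v.card
  let en : Fin n ≃ v := v.equivFin.symm
  let j : ((Fin n → R) × P) →ₗ[R] (P × (ι →₀ R)) :=
    (LinearMap.snd R _ _).prod
      ((Finsupp.lmapDomain R R (fun k => (en k : ι))) ∘ₗ
        (Finsupp.linearEquivFunOnFinite R R (Fin n)).symm.toLinearMap ∘ₗ LinearMap.fst R _ _)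
  let q : (P × (ι →₀ R)) →ₗ[R] ((Fin n → R) × P) :=
    (LinearMap.pi fun k => Finsupp.lapply (en k : ι) ∘ₗ LinearMap.snd R P _).prod (LinearMap.fst R P _)
  let K₁ : Submodule R (P × (ι →₀ R)) := Submodule.span R (Set.range fun k : t => b k)
  let π : (P × (ι →₀ R)) →ₗ[R] K₁ :=
    b.constr R fun k => if h : k ∈ t then ⟨b k, Submodule.subset_span ⟨⟨k, h⟩, rfl⟩⟩ else 0
  have hπ : π ∘ₗ K₁.subtype = LinearMap.id := by
    refine LinearMap.ext_on_range (v := fun k : t => (⟨b k, Submodule.subset_span ⟨k, rfl⟩⟩ : K₁)) ?_ ?_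
    · rw [Submodule.eq_top_iff']
      rintro ⟨x, hx⟩
      refine (Submodule.span_induction (p := fun x hx => (⟨x, hx⟩ : K₁) ∈ _) ?_ ?_ ?_ ?_ hx)
      · rintro _ ⟨k, rfl⟩
        exact Submodule.subset_span ⟨k, rfl⟩
      · exact zero_mem _
      · intro x y hx hy hx' hy'
        exact add_mem hx' hy'
      · intro r x hx hx'
        exact Submodule.smul_mem _ r hx'
    · intro k
      simp [π]
  have hjq : ∀ x ∈ K₁, j (q x) = x := by
    intro x hx
    induction hx using Submodule.span_induction with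
    | mem y hy =>
      obtain ⟨k, rfl⟩ := hy
      refine Prod.ext rfl ?_
      have hsupp : (b k).2.support ⊆ v := Finset.subset_biUnion_of_mem (fun k => (b k).2.support) k.2
      refine Finsupp.ext fun i => ?_
      by_cases hi : i ∈ v
      · obtain ⟨k', hk'⟩ := en.surjective ⟨i, hi⟩
        obtain rfl : (en k' : ι) = i := congrArg Subtype.val hk'
        simp only [j, q, LinearMap.prod_apply, Function.prod, LinearMap.comp_apply, Finsupp.lmapDomain_apply, LinearEquiv.coe_toLinearMap, LinearMap.fst_apply]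
        rw [Finsupp.mapDomain_apply (f := fun k => (en k : ι)) (Subtype.val_injective.comp en.injective)]
        simp
      · simp only [j, q, LinearMap.prod_apply, Function.prod, LinearMap.comp_apply, Finsupp.lmapDomain_apply, LinearEquiv.coe_toLinearMap, LinearMap.fst_apply]
        rw [Finsupp.mapDomain_notin_range, Finsupp.notMem_support_iff.1 (fun h => hi (hsupp h))]
        rintro ⟨k', rfl⟩
        exact hi (en k').2
    | zero => simp
    | add y z _ _ hy hz => simp only [map_add, hy, hz]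
    | smul r y _ hy => simp only [map_smul, hy]
  let f : ((Fin n → R) × P) →ₗ[R] K₁ := π ∘ₗ j
  let g : K₁ →ₗ[R] ((Fin n → R) × P) := q ∘ₗ K₁.subtype
  have hfg : ∀ y, f (g y) = y := fun y => by
    simp only [f, g, LinearMap.comp_apply, Submodule.subtype_apply]
    rw [hjq _ y.2]
    exact LinearMap.congr_fun hπ y
  have hginj : Function.Injective g := Function.LeftInverse.injective hfg
  have hli : LinearIndependent R (fun k : t => b k) :=
    b.linearIndependent.comp _ Subtype.val_injective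
  haveI : Module.Free R K₁ := Module.Free.of_basis (Module.Basis.span hli)
  haveI : Module.Finite R K₁ := Module.Finite.iff_fg.2 (Submodule.fg_span (Set.finite_range _))
  refine ⟨n, LinearMap.range g, LinearMap.ker f, ?_, Module.Free.of_equiv (LinearEquiv.ofInjective g hginj),
    Module.Finite.equiv (LinearEquiv.ofInjective g hginj), ?_⟩
  · refine ⟨Submodule.disjoint_def.2 ?_, codisjoint_iff.2 (eq_top_iff.2 fun x _ => ?_)⟩
    · rintro _ ⟨y, rfl⟩ hy
      rw [LinearMap.mem_ker, hfg] at hy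
      rw [hy, map_zero]
    · exact Submodule.mem_sup.2 ⟨g (f x), ⟨_, rfl⟩, x - g (f x),
        by rw [LinearMap.mem_ker, map_sub, hfg, sub_self], add_sub_cancel _ _⟩
  · have hs : (s, (0 : ι →₀ R)) ∈ K₁ := by
      rw [← b.linearCombination_repr (s, 0), Finsupp.linearCombination_apply]
      exact Submodule.sum_mem _ fun k hk =>
        Submodule.smul_mem _ _ (Submodule.subset_span ⟨⟨k, hk⟩, rfl⟩)
    refine ⟨⟨(s, 0), hs⟩, ?_⟩
    refine Prod.ext (funext fun k => ?_) rfl
    simp [g, q]

end Groth.Agent.CAlgUI
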